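import Groth.Agent.AlgSp.K631.Base

/-! Topology of the points of a sheaf and thickenings: a thickening induces a homeomorphism on points. -/

set_option autoImplicit false
universe u
open CategoryTheory CategoryTheory.Limits AlgebraicGeometry Opposite

namespace K631.Thick

open AlgSp K631.Base

variable {S : Scheme.{u}} {F G H P Z : Sp S}

theorem preimage_image {W T : Over S} {fst : (yon S).obj W ⟶ F} {snd : W ⟶ T} {f : F ⟶ G}
    {g : (yon S).obj T ⟶ G} (sq : IsPullback fst ((yon S).map snd) f g) (A : Set (Points F)) :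
    Points.ofPt g ⁻¹' (Points.map f '' A) = snd.left '' (Points.ofPt fst ⁻¹' A) := by
  ext t
  constructor
  · rintro ⟨x, hx, e⟩
    obtain ⟨w, h1, h2⟩ := exists_of_isPullback_rep sq x t e
    exact ⟨w, by rwa [Set.mem_preimage, h1], h2⟩
  · rintro ⟨w, hw, rfl⟩
    exact ⟨_, hw, ofPt_fst_eq sq w⟩

theorem isClosed_iff {A : Set (Points F)} :
    IsClosed A ↔ ∀ (T : Over S) (g : (yon S).obj T ⟶ F), IsClosed (Points.ofPt g ⁻¹' A) := by
  rw [← isOpen_compl_iff, Points.isOpen_iff]
  refine forall₂_congr fun T g => ?_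
  rw [Set.preimage_compl, isOpen_compl_iff]

/-- If all represented base changes of `f` are open maps then `|f|` is an open map. -/
theorem isOpenMap_map {f : F ⟶ G} (hf : Representable f)
    (h : ∀ ⦃U V : Over S⦄ (g : (yon S).obj U ⟶ G) (fst : (yon S).obj V ⟶ F) (snd : V ⟶ U),
        IsPullback fst ((yon S).map snd) f g → IsOpenMap snd.left) :
    IsOpenMap (Points.map f) := by
  intro A hA
  rw [Points.isOpen_iff]
  intro T g
  rw [preimage_image (hf.isPullback g)]
  exact h g _ _ (hf.isPullback g) _ (Points.isOpen_iff.1 hA _ _)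

/-- If all represented base changes of `f` are closed maps then `|f|` is a closed map. -/
theorem isClosedMap_map {f : F ⟶ G} (hf : Representable f)
    (h : ∀ ⦃U V : Over S⦄ (g : (yon S).obj U ⟶ G) (fst : (yon S).obj V ⟶ F) (snd : V ⟶ U),
        IsPullback fst ((yon S).map snd) f g → IsClosedMap snd.left) :
    IsClosedMap (Points.map f) := by
  intro A hA
  rw [isClosed_iff]
  intro T g
  rw [preimage_image (hf.isPullback g)]
  exact h g _ _ (hf.isPullback g) _ (isClosed_iff.1 hA _ _)

/-- If all represented base changes of `f` are injective then `|f|` is injective. -/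
theorem injective_map {f : F ⟶ G} (hf : Representable f)
    (h : ∀ ⦃U V : Over S⦄ (g : (yon S).obj U ⟶ G) (fst : (yon S).obj V ⟶ F) (snd : V ⟶ U),
        IsPullback fst ((yon S).map snd) f g → Function.Injective snd.left) :
    Function.Injective (Points.map f) := by
  have key : ∀ (Ω : Type u) (_ : Field Ω) (w : Spec (CommRingCat.of Ω) ⟶ S)
      (x y : (yon S).obj (Over.mk w) ⟶ F), x ≫ f = y ≫ f → pt x = pt y := by
    intro Ω _ w x y e
    have sq := hf.isPullback (x ≫ f)
    let σ := hf.lift x (𝟙 _) (by rw [(yon S).map_id, Category.id_comp] : x ≫ f = (yon S).map (𝟙 _) ≫ x ≫ f)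
    let τ := hf.lift y (𝟙 _) (by rw [(yon S).map_id, Category.id_comp, e] :
      y ≫ f = (yon S).map (𝟙 _) ≫ x ≫ f)
    have h1 : (yon S).map σ ≫ hf.fst (x ≫ f) = x := hf.lift_fst _ _ _
    have h2 : (yon S).map τ ≫ hf.fst (x ≫ f) = y := hf.lift_fst _ _ _
    rw [← h1, ← h2, pt_eq_ofPt, pt_eq_ofPt]
    congr 1
    apply h _ _ _ sq
    have e1 : σ ≫ hf.snd (x ≫ f) = 𝟙 _ := hf.lift_snd _ _ _
    have e2 : τ ≫ hf.snd (x ≫ f) = 𝟙 _ := hf.lift_snd _ _ _
    have := e1.trans e2.symm
    rw [← Scheme.Hom.comp_apply, ← Scheme.Hom.comp_apply, ← Over.comp_left, ← Over.comp_left, this]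
  intro x y e
  obtain ⟨K, _, str, x, rfl⟩ := exists_pt x
  obtain ⟨L, _, str', y, rfl⟩ := exists_pt y
  rw [map_pt, map_pt, pt_eq_pt_iff] at e
  obtain ⟨Ω, _, w, a, b, e⟩ := e
  rw [← pt_comp a x, ← pt_comp b y]
  refine key Ω _ w _ _ ?_
  rw [Category.assoc, Category.assoc, e]

/-- A representable morphism all of whose represented base changes are homeomorphisms induces a
homeomorphism on points. -/
theorem isHomeomorph_map {f : F ⟶ G} (hf : Representable f)
    (h : ∀ ⦃U V : Over S⦄ (g : (yon S).obj U ⟶ G) (fst : (yon S).obj V ⟶ F) (snd : V ⟶ U),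
        IsPullback fst ((yon S).map snd) f g → IsHomeomorph snd.left) :
    IsHomeomorph (Points.map f) where
  continuous := Points.continuous_map f
  isOpenMap := isOpenMap_map hf fun _ _ g fst snd sq => (h g fst snd sq).isOpenMap
  bijective := ⟨injective_map hf fun _ _ g fst snd sq => (h g fst snd sq).injective,
    (repWith_surjective_iff hf).1 ⟨hf, fun _ _ g fst snd sq => ⟨(h g fst snd sq).surjective⟩⟩⟩

theorem isHomeomorph_of_thick {X Y : Scheme.{u}} {f : X ⟶ Y} (hf : thick f) : IsHomeomorph f := by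
  have h1 : IsClosedImmersion f := hf.1
  have h2 : Surjective f := hf.2
  exact isHomeomorph_iff_isEmbedding_surjective.2 ⟨f.isClosedEmbedding.isEmbedding, h2.surj⟩

/-- A thickening induces a homeomorphism on points. -/
theorem isHomeomorph_map_of_isThickMor {i : F ⟶ G} (hi : IsThickMor i) :
    IsHomeomorph (Points.map i) :=
  isHomeomorph_map hi.1 fun _ _ g fst snd sq => isHomeomorph_of_thick (hi.2 g fst snd sq)

theorem repWith_isClosedImmersion {i : F ⟶ G} (hi : IsThickMor i) : RepWith @IsClosedImmersion i :=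
  ⟨hi.1, fun _ _ g fst snd sq => (hi.2 g fst snd sq).1⟩

theorem repWith_surjective {i : F ⟶ G} (hi : IsThickMor i) : RepWith @Surjective i :=
  ⟨hi.1, fun _ _ g fst snd sq => (hi.2 g fst snd sq).2⟩

/-- Thickenings are stable under base change. -/
theorem isThickMor_snd {fst : P ⟶ F} {snd : P ⟶ Z} {f : F ⟶ G} {g : Z ⟶ G}
    (sq : IsPullback fst snd f g) (h : IsThickMor f) : IsThickMor snd :=
  MorphismProperty.of_isPullback (P := RepWith thick) sq h

theorem isThickMor_fst {fst : P ⟶ F} {snd : P ⟶ Z} {f : F ⟶ G} {g : Z ⟶ G}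
    (sq : IsPullback fst snd f g) (h : IsThickMor g) : IsThickMor fst :=
  isThickMor_snd sq.flip h

/-- A morphism representable by monomorphisms is a monomorphism. -/
theorem mono_of_representable {f : F ⟶ G} (hf : Representable f)
    (h : ∀ ⦃U V : Over S⦄ (g : (yon S).obj U ⟶ G) (fst : (yon S).obj V ⟶ F) (snd : V ⟶ U),
        IsPullback fst ((yon S).map snd) f g → Mono snd.left) : Mono f := by
  constructor
  intro Z a b e
  refine GrothendieckTopology.hom_ext_uliftYoneda.{u + 1} (J S) ?_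
  intro T p
  have e' : (p ≫ a) ≫ f = (p ≫ b) ≫ f := by rw [Category.assoc, e, Category.assoc]
  generalize p ≫ a = x at e' ⊢
  generalize p ≫ b = y at e' ⊢
  have sq := hf.isPullback (x ≫ f)
  let σ := hf.lift x (𝟙 _) (by rw [(yon S).map_id, Category.id_comp] : x ≫ f = (yon S).map (𝟙 _) ≫ x ≫ f)
  let τ := hf.lift y (𝟙 _) (by rw [(yon S).map_id, Category.id_comp, e'] :
      y ≫ f = (yon S).map (𝟙 _) ≫ x ≫ f)
  have h1 : (yon S).map σ ≫ hf.fst (x ≫ f) = x := hf.lift_fst _ _ _
  have h2 : (yon S).map τ ≫ hf.fst (x ≫ f) = y := hf.lift_fst _ _ _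
  have e1 : σ ≫ hf.snd (x ≫ f) = 𝟙 _ := hf.lift_snd _ _ _
  have e2 : τ ≫ hf.snd (x ≫ f) = 𝟙 _ := hf.lift_snd _ _ _
  have hm : Mono (hf.snd (x ≫ f)).left := h _ _ _ sq
  have : Mono (hf.snd (x ≫ f)) := (Over.forget S).mono_of_mono_map hm
  have : σ = τ := by
    rw [← cancel_mono (hf.snd (x ≫ f)), e1, e2]
  rw [← h1, ← h2, this]

theorem mono_of_isThickMor {i : F ⟶ G} (hi : IsThickMor i) : Mono i :=
  mono_of_representable hi.1 fun _ _ g fst snd sq => by
    have : IsClosedImmersion snd.left := (hi.2 g fst snd sq).1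
    infer_instance

end K631.Thick
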