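import Groth.Agent.AlgSp.K595.ChBaseAlg
import Groth.Agent.AlgSp.K631.Thick
import Groth.Agent.AlgSp.K613.Basic

/-!
# Change of the base scheme and representability

`j_! X` representable iff `X` representable, for any `g : S ⟶ S'`.
-/

set_option autoImplicit false
universe u
open CategoryTheory CategoryTheory.Limits AlgebraicGeometry Opposite

namespace K631.BaseZ

open AlgSp K595.ChBase

variable {S S' : Scheme.{u}} {g : S ⟶ S'}

/-- Isomorphisms can be detected after `j_!`. -/
theorem isIso_of_L {F G : Sp S} (f : F ⟶ G) (h : IsIso ((L g).map f)) : IsIso f := by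
  have h1 : RepWith (MorphismProperty.isomorphisms Scheme.{u}) ((L g).map f) := by
    refine MorphismProperty.relative.of_exists fun T a => ⟨T, a ≫ inv ((L g).map f), 𝟙 T, ?_, ?_⟩
    · rw [(yon S').map_id]
      exact IsPullback.of_vert_isIso ⟨by simp⟩
    · exact (inferInstance : IsIso (𝟙 T.left))
  have h2 : RepWith (MorphismProperty.isomorphisms Scheme.{u}) f := (repWith_L_iff (g := g) f).1 h1
  refine K613.Basic.isIso_of_bijective fun T y => ?_
  obtain ⟨V, snd, fst, sq⟩ := h2.1 y
  have h3 : IsIso snd.left := h2.2 _ _ _ sq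
  have h4 : IsIso ((Over.forget S).map snd) := h3
  have h5 : IsIso snd := isIso_of_reflects_iso snd (Over.forget S)
  refine ⟨inv ((yon S).map snd) ≫ fst, ?_, fun z hz => ?_⟩
  · simp only
    rw [Category.assoc, sq.w, IsIso.inv_hom_id_assoc]
  · have := sq.lift_fst z (𝟙 _) (by rw [hz, Category.id_comp])
    rw [← this]
    congr 1
    exact IsIso.eq_inv_of_inv_hom_id (sq.lift_snd _ _ _)

/-- Representability descends along `j_!`; the representing schemes are isomorphic. -/
theorem exists_rep_of_L {X : Sp S} {T' : Over S'} (e : (yon S').obj T' ≅ (L g).obj X) :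
    ∃ (T : Over S), Nonempty (T.left ≅ T'.left) ∧ Nonempty ((yon S).obj T ≅ X) := by
  obtain ⟨T, ε, x, h⟩ := exists_lift e.hom
  have h1 : IsIso (yonHom T ≫ (L g).map x) := by rw [← h]; infer_instance
  have h2 : IsIso ((L g).map x) := IsIso.of_isIso_comp_left (yonHom T) _
  have h3 := isIso_of_L x h2
  exact ⟨T, ⟨(Over.forget S').mapIso ε⟩, ⟨asIso x⟩⟩

theorem isThickMor_L_iff {X Y : Sp S} (f : X ⟶ Y) : IsThickMor ((L g).map f) ↔ IsThickMor f :=
  have : thick.{u}.RespectsIso := inferInstance
  repWith_L_iff (g := g) f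

end K631.BaseZ
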