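import Groth.Agent.AlgSp.K631.Thick
import Groth.Agent.AlgSp.K613.Chart
import Groth.Agent.AlgSp.K609.QC

/-! Morphisms of thickenings of algebraic spaces: topological properties. -/

set_option autoImplicit false
universe u
open CategoryTheory CategoryTheory.Limits AlgebraicGeometry Opposite

namespace K631.ThickMor

open AlgSp K631.Base K631.Thick K613.Chart

variable {S : Scheme.{u}} {F G H P Z X X' Y Y' : Sp S}

/-- The source of a thickening of an algebraic space is an algebraic space. -/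
theorem isAlgSpace_of_isThickMor {i : F ⟶ G} (hi : IsThickMor i) (hG : IsAlgSpace G) : IsAlgSpace F := by
  have := mono_of_isThickMor hi
  constructor
  · have hd := hG.diag
    rw [representable_diag_iff] at hd ⊢
    intro T a b
    obtain ⟨E, e, he⟩ := hd T (a ≫ i) (b ≫ i)
    refine ⟨E, e, ?_, fun R r hr => he.lift R r ?_⟩
    · rw [← cancel_mono i, Category.assoc, Category.assoc]; exact he.w
    · rw [← Category.assoc, ← Category.assoc, hr]
  · obtain ⟨U, p, hp1, hp2⟩ := hG.atlas
    obtain ⟨W, snd, fst, sq⟩ := hi.1 p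
    exact ⟨W, fst, MorphismProperty.of_isPullback sq.flip hp1, MorphismProperty.of_isPullback sq.flip hp2⟩

theorem isPullback_comp_mono {C : Type*} [Category C] {P X Y Z W : C} {fst : P ⟶ X} {snd : P ⟶ Y} {f : X ⟶ Z}
    {g : Y ⟶ Z} (sq : IsPullback fst snd f g) (j : Z ⟶ W) [Mono j] : IsPullback fst snd (f ≫ j) (g ≫ j) := by
  refine ⟨⟨by rw [← Category.assoc, sq.w, Category.assoc]⟩, ⟨PullbackCone.IsLimit.mk _
    (fun s => sq.lift s.fst s.snd ?_) (fun s => sq.lift_fst _ _ _) (fun s => sq.lift_snd _ _ _)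
    (fun s l h1 h2 => ?_)⟩⟩
  · rw [← cancel_mono j, Category.assoc, Category.assoc, s.condition]
  · apply sq.hom_ext
    · rw [sq.lift_fst, h1]
    · rw [sq.lift_snd, h2]

/-- Comparison of base changes: given thickenings `i : X ⟶ X'`, `j : Y ⟶ Y'` and `i ≫ f' = f ≫ j`, for
`g : Z' ⟶ Y'`, with `Z = Z' ×_{Y'} Y`. -/
theorem exists_compare {i : X ⟶ X'} {j : Y ⟶ Y'} {f : X ⟶ Y} {f' : X' ⟶ Y'} (hi : IsThickMor i) (hj : IsThickMor j)
    (w : i ≫ f' = f ≫ j) {Z' P' : Sp S} (g : Z' ⟶ Y') {fst' : P' ⟶ X'} {snd' : P' ⟶ Z'}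
    (sq' : IsPullback fst' snd' f' g) :
    ∃ (Z P : Sp S) (k : Z ⟶ Z') (l : P ⟶ P') (g' : Z ⟶ Y) (fst : P ⟶ X) (snd : P ⟶ Z),
      IsThickMor k ∧ IsThickMor l ∧ IsPullback fst snd f g' ∧ l ≫ snd' = snd ≫ k := by
  have s1 := IsPullback.of_hasPullback g j
  have s2 := IsPullback.of_hasPullback f (pullback.snd g j)
  have e : (pullback.fst f (pullback.snd g j) ≫ i) ≫ f' =
      (pullback.snd f (pullback.snd g j) ≫ pullback.fst g j) ≫ g := by
    rw [Category.assoc, w, ← Category.assoc, pullback.condition, Category.assoc, Category.assoc, ← pullback.condition]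
  refine ⟨pullback g j, pullback f (pullback.snd g j), pullback.fst g j,
    sq'.lift (pullback.fst _ _ ≫ i) (pullback.snd _ _ ≫ pullback.fst g j) e, pullback.snd g j, pullback.fst _ _,
    pullback.snd _ _, isThickMor_fst s1 hj, ?_, s2, sq'.lift_snd _ _ _⟩
  have s3 := IsPullback.of_right (h₁₁ := sq'.lift (pullback.fst _ _ ≫ i) (pullback.snd _ _ ≫ pullback.fst g j) e)
    (v₁₁ := pullback.fst f (pullback.snd g j)) (h₂₁ := i) (h₁₂ := snd') (h₂₂ := f') (v₁₂ := fst') (v₁₃ := g)
    (by
      rw [sq'.lift_snd, w]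
      exact s2.flip.paste_horiz s1) (sq'.lift_fst _ _ _) sq'.flip
  exact isThickMor_fst s3 hi

/-- Base change along `Z ⟶ Y` of a morphism of thickenings: comparison of `X ×_Y Z` with `X' ×_{Y'} Z`. -/
theorem exists_compare' {i : X ⟶ X'} {j : Y ⟶ Y'} {f : X ⟶ Y} {f' : X' ⟶ Y'} (hi : IsThickMor i) (hj : IsThickMor j)
    (w : i ≫ f' = f ≫ j) {Z P : Sp S} (g : Z ⟶ Y) {fst : P ⟶ X} {snd : P ⟶ Z}
    (sq : IsPullback fst snd f g) :
    ∃ (P' : Sp S) (l : P ⟶ P') (fst' : P' ⟶ X') (snd' : P' ⟶ Z),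
      IsThickMor l ∧ IsPullback fst' snd' f' (g ≫ j) ∧ l ≫ snd' = snd := by
  have := mono_of_isThickMor hj
  have s1 := IsPullback.of_hasPullback f' (g ≫ j)
  have e : (fst ≫ i) ≫ f' = snd ≫ g ≫ j := by
    rw [Category.assoc, w, ← Category.assoc, sq.w, Category.assoc]
  refine ⟨pullback f' (g ≫ j), s1.lift (fst ≫ i) snd e, pullback.fst _ _, pullback.snd _ _, ?_, s1, s1.lift_snd _ _ _⟩
  have s3 := IsPullback.of_right (h₁₁ := s1.lift (fst ≫ i) snd e) (v₁₁ := fst) (h₂₁ := i)
    (h₁₂ := pullback.snd _ _) (h₂₂ := f') (v₁₂ := pullback.fst _ _) (v₁₃ := g ≫ j)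
    (by
      rw [s1.lift_snd, w]
      exact (isPullback_comp_mono sq j).flip) (s1.lift_fst _ _ _) s1.flip
  exact isThickMor_fst s3 hi

/-- Transfer of closedness/openness/injectivity along a square of homeomorphisms. -/
theorem isOpenMap_iff {l : P ⟶ F} {k : Z ⟶ G} {p : P ⟶ Z} {p' : F ⟶ G} (hl : IsThickMor l) (hk : IsThickMor k)
    (w : l ≫ p' = p ≫ k) : IsOpenMap (Points.map p) ↔ IsOpenMap (Points.map p') := by
  have h1 := isHomeomorph_map_of_isThickMor hl
  have h2 := isHomeomorph_map_of_isThickMor hk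
  have e : Points.map p' ∘ Points.map l = Points.map k ∘ Points.map p := by
    funext x
    rw [Function.comp_apply, Function.comp_apply, ← Points.map_comp, ← Points.map_comp, w]
  constructor
  · intro h
    have h3 : IsOpenMap (Points.map p' ∘ Points.map l) := by
      rw [e]; exact h2.isOpenMap.comp h
    intro A hA
    rw [← Set.image_preimage_eq A h1.surjective, ← Set.image_comp]
    exact h3 _ (hA.preimage h1.continuous)
  · intro h
    have h3 : IsOpenMap (Points.map k ∘ Points.map p) := by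
      rw [← e]; exact h.comp h1.isOpenMap
    intro A hA
    have := h3 A hA
    rw [Set.image_comp] at this
    rw [← Set.preimage_image_eq (Points.map p '' A) h2.injective]
    exact this.preimage h2.continuous

theorem isClosedMap_iff {l : P ⟶ F} {k : Z ⟶ G} {p : P ⟶ Z} {p' : F ⟶ G} (hl : IsThickMor l) (hk : IsThickMor k)
    (w : l ≫ p' = p ≫ k) : IsClosedMap (Points.map p) ↔ IsClosedMap (Points.map p') := by
  have h1 := isHomeomorph_map_of_isThickMor hl
  have h2 := isHomeomorph_map_of_isThickMor hk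
  have e : Points.map p' ∘ Points.map l = Points.map k ∘ Points.map p := by
    funext x
    rw [Function.comp_apply, Function.comp_apply, ← Points.map_comp, ← Points.map_comp, w]
  constructor
  · intro h
    have h3 : IsClosedMap (Points.map p' ∘ Points.map l) := by
      rw [e]; exact h2.isClosedMap.comp h
    exact h3.of_comp_surjective h1.surjective h1.continuous
  · intro h
    have h3 : IsClosedMap (Points.map k ∘ Points.map p) := by
      rw [← e]; exact h.comp h1.isClosedMap
    intro A hA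
    have := h3 A hA
    rw [Set.image_comp] at this
    rw [← Set.preimage_image_eq (Points.map p '' A) h2.injective]
    exact this.preimage h2.continuous

theorem injective_iff {l : P ⟶ F} {k : Z ⟶ G} {p : P ⟶ Z} {p' : F ⟶ G} (hl : IsThickMor l) (hk : IsThickMor k)
    (w : l ≫ p' = p ≫ k) : Function.Injective (Points.map p) ↔ Function.Injective (Points.map p') := by
  have h1 := (isHomeomorph_map_of_isThickMor hl).bijective
  have h2 := (isHomeomorph_map_of_isThickMor hk).bijective
  have e : Points.map p' ∘ Points.map l = Points.map k ∘ Points.map p := by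
    funext x
    rw [Function.comp_apply, Function.comp_apply, ← Points.map_comp, ← Points.map_comp, w]
  rw [← Function.Injective.of_comp_iff h2.injective, ← e]
  exact Function.Injective.of_comp_iff' _ h1

theorem surjective_iff {l : P ⟶ F} {k : Z ⟶ G} {p : P ⟶ Z} {p' : F ⟶ G} (hl : IsThickMor l) (hk : IsThickMor k)
    (w : l ≫ p' = p ≫ k) : Function.Surjective (Points.map p) ↔ Function.Surjective (Points.map p') := by
  have h1 := (isHomeomorph_map_of_isThickMor hl).bijective
  have h2 := (isHomeomorph_map_of_isThickMor hk).bijective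
  have e : Points.map p' ∘ Points.map l = Points.map k ∘ Points.map p := by
    funext x
    rw [Function.comp_apply, Function.comp_apply, ← Points.map_comp, ← Points.map_comp, w]
  rw [← Function.Surjective.of_comp_iff' h2, ← e]
  exact Function.Surjective.of_comp_iff _ h1.surjective

theorem isThickMor_id (Z : Sp S) : IsThickMor (𝟙 Z) := by
  refine MorphismProperty.relative.of_exists fun T a => ⟨T, a, 𝟙 T, ?_, ?_⟩
  · rw [(yon S).map_id]; exact IsPullback.of_vert_isIso ⟨by simp⟩
  · exact ⟨(inferInstance : IsClosedImmersion (𝟙 T.left)), (inferInstance : Surjective (𝟙 T.left))⟩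

/-- A property of maps which is insensitive to thickenings holds universally for `f` iff for `f'`. -/
theorem univSp_iff {Q : MorphismProperty (Sp S)}
    (hQ : ∀ ⦃P F Z G : Sp S⦄ (l : P ⟶ F) (k : Z ⟶ G) (p : P ⟶ Z) (p' : F ⟶ G), IsThickMor l → IsThickMor k →
      l ≫ p' = p ≫ k → (Q p ↔ Q p'))
    {i : X ⟶ X'} {j : Y ⟶ Y'} {f : X ⟶ Y} {f' : X' ⟶ Y'} (hi : IsThickMor i) (hj : IsThickMor j)
    (w : i ≫ f' = f ≫ j) : UnivSp Q f ↔ UnivSp Q f' := by
  constructor
  · intro h Z' P' hZ' g fst' snd' sq'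
    obtain ⟨Z, P, k, l, g', fst, snd, hk, hl, sq, e⟩ := exists_compare hi hj w g sq'
    exact (hQ l k snd snd' hl hk e).1 (h (isAlgSpace_of_isThickMor hk hZ') _ _ _ sq)
  · intro h Z P hZ g fst snd sq
    obtain ⟨P', l, fst', snd', hl, sq', e⟩ := exists_compare' hi hj w g sq
    exact (hQ l (𝟙 Z) snd snd' hl (isThickMor_id Z) (by rw [e, Category.comp_id])).2 (h hZ _ _ _ sq')

theorem isQuasiCompactSp_iff_of_thick {l : P ⟶ F} (hl : IsThickMor l) (hF : IsAlgSpace F) :
    IsQuasiCompactSp P ↔ IsQuasiCompactSp F := by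
  rw [K609.QC.isQuasiCompactSp_iff hF, K609.QC.isQuasiCompactSp_iff (isAlgSpace_of_isThickMor hl hF)]
  have h := isHomeomorph_map_of_isThickMor hl
  let e := h.homeomorph
  exact ⟨fun _ => e.compactSpace, fun _ => e.symm.compactSpace⟩

theorem isQuasiCompactMor_iff (hX' : IsAlgSpace X') (hY' : IsAlgSpace Y')
    {i : X ⟶ X'} {j : Y ⟶ Y'} {f : X ⟶ Y} {f' : X' ⟶ Y'} (hi : IsThickMor i) (hj : IsThickMor j)
    (w : i ≫ f' = f ≫ j) : IsQuasiCompactMor f ↔ IsQuasiCompactMor f' := by
  constructor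
  · intro h Z' P' hZ' hc g fst' snd' sq'
    obtain ⟨Z, P, k, l, g', fst, snd, hk, hl, sq, e⟩ := exists_compare hi hj w g sq'
    exact (isQuasiCompactSp_iff_of_thick hl (isAlgSpace_of_isPullback hY'.diag hX' hZ' sq')).1
      (h (isAlgSpace_of_isThickMor hk hZ') ((isQuasiCompactSp_iff_of_thick hk hZ').2 hc) _ _ _ sq)
  · intro h Z P hZ hc g fst snd sq
    obtain ⟨P', l, fst', snd', hl, sq', e⟩ := exists_compare' hi hj w g sq
    exact (isQuasiCompactSp_iff_of_thick hl (isAlgSpace_of_isPullback hY'.diag hX' hZ sq')).2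
      (h hZ hc _ _ _ sq')

end K631.ThickMor
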