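import Groth.Agent.AlgSp.K631.ThickMor
import Groth.Agent.AlgSp.K610.Sub
import Groth.Agent.AlgSp.K610.Factor

/-! Open subspaces and thickenings. -/

set_option autoImplicit false
universe u
open CategoryTheory CategoryTheory.Limits AlgebraicGeometry Opposite

namespace K631.ThickOpen

open AlgSp K631.Base K631.Thick K631.ThickMor K613.Chart K610.Factor K610.Sub

variable {S : Scheme.{u}} {F G H P Z X X' Y Y' U U' : Sp S}

theorem isOpen_range {u : U ⟶ X} (hu : RepWith @IsOpenImmersion u) : IsOpen (Set.range (Points.map u)) := by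
  have : IsOpenMap (Points.map u) := K609.Points.isOpenMap_map
    (K609.Points.repWith_mono (fun f (_ : IsOpenImmersion f) => (inferInstance : UniversallyOpen f)) hu)
  exact this.isOpen_range

/-- An open subspace `U` of `X` and an open subspace `U'` of `X'` with `|U'| = |U|` form a pullback square. -/
theorem isPullback_of_range {i : X ⟶ X'} (hi : IsThickMor i) {u : U ⟶ X} (hu : RepWith @IsOpenImmersion u)
    {u' : U' ⟶ X'} (hu' : RepWith @IsOpenImmersion u')
    (h : Set.range (Points.map u') = Points.map i '' Set.range (Points.map u)) :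
    ∃ k : U ⟶ U', IsPullback u k i u' := by
  have hm := mono_of_isOpenImmersion hu
  have hm' := mono_of_isOpenImmersion hu'
  obtain ⟨k, hk⟩ := (factors_open_iff hu' (u ≫ i)).2 (by
    rw [h]
    rintro _ ⟨x, rfl⟩
    rw [Points.map_comp]
    exact ⟨_, ⟨x, rfl⟩, rfl⟩)
  have key : ∀ s : PullbackCone i u', ∃ l : s.pt ⟶ U, l ≫ u = s.fst := fun s => by
    rw [factors_open_iff hu]
    rintro _ ⟨z, rfl⟩
    have h1 : Points.map i (Points.map s.fst z) ∈ Points.map i '' Set.range (Points.map u) := by
      rw [← h, ← Points.map_comp, s.condition, Points.map_comp]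
      exact ⟨_, rfl⟩
    obtain ⟨y, hy, e⟩ := h1
    rwa [← (isHomeomorph_map_of_isThickMor hi).injective e]
  choose l hl using key
  refine ⟨k, ⟨⟨hk.symm⟩, ⟨PullbackCone.IsLimit.mk _ (fun s => l s) (fun s => hl s) (fun s => ?_)
    (fun s m h1 h2 => ?_)⟩⟩⟩
  · rw [← cancel_mono u', Category.assoc, hk, ← Category.assoc, hl, s.condition]
  · rw [← cancel_mono u, h1, hl]

theorem range_eq_of_isPullback {i : X ⟶ X'} (hi : IsThickMor i) {u : U ⟶ X} {u' : U' ⟶ X'} {k : U ⟶ U'}
    (sq : IsPullback u k i u') :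
    Set.range (Points.map u') = Points.map i '' Set.range (Points.map u) := by
  rw [range_map_snd sq.flip, Set.image_preimage_eq _ (isHomeomorph_map_of_isThickMor hi).surjective]

/-- Two open subspaces with the same points are isomorphic. -/
theorem exists_iso_of_range {u₁ : U ⟶ X} {u₂ : U' ⟶ X} (h₁ : RepWith @IsOpenImmersion u₁)
    (h₂ : RepWith @IsOpenImmersion u₂) (h : Set.range (Points.map u₁) = Set.range (Points.map u₂)) :
    ∃ e : U ≅ U', e.hom ≫ u₂ = u₁ := by
  have := mono_of_isOpenImmersion h₁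
  have := mono_of_isOpenImmersion h₂
  obtain ⟨a, ha⟩ := (factors_open_iff h₂ u₁).2 h.le
  obtain ⟨b, hb⟩ := (factors_open_iff h₁ u₂).2 h.ge
  refine ⟨⟨a, b, ?_, ?_⟩, ha⟩
  · rw [← cancel_mono u₁, Category.assoc, hb, ha, Category.id_comp]
  · rw [← cancel_mono u₂, Category.assoc, ha, hb, Category.id_comp]

end K631.ThickOpen
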