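import Groth.Agent.AlgSp.K631.NilAff
import Groth.Agent.AlgSp.K610.OpenImm
import Groth.Agent.AlgSp.K632.IntThick
import Groth.Agent.AlgSp.K617.FinLoc

/-!
# Affine morphisms and thickenings
-/

set_option autoImplicit false
universe u
open CategoryTheory CategoryTheory.Limits AlgebraicGeometry Opposite

namespace K631.AffThick

open AlgSp K631.Thick K631.ThickMor K631.NilAff

variable {S : Scheme.{u}} {X X' Y Y' Z Z' P P' : Sp S}

/-- The source of a closed immersion into an affine scheme is an affine scheme. -/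
theorem exists_affine_source {k : Z ⟶ Z'} (hk : RepWith @IsClosedImmersion k) {T : Over S} (hT : IsAffine T.left)
    (e : (yon S).obj T ≅ Z') : ∃ W : Over S, IsAffine W.left ∧ Nonempty ((yon S).obj W ≅ Z) := by
  obtain ⟨W, c, fst, sq⟩ := hk.1 e.hom
  have h1 : IsClosedImmersion c.left := hk.2 _ _ _ sq
  have h2 : IsIso fst := MorphismProperty.of_isPullback (P := MorphismProperty.isomorphisms (Sp S)) sq.flip
    (inferInstanceAs (IsIso e.hom))
  exact ⟨W, isAffine_of_isAffineHom c.left, ⟨asIso fst⟩⟩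

theorem exists_isPullback_of_iso {f : X ⟶ Y} {T : Over S} {g : (yon S).obj T ⟶ Y} {fst : P ⟶ X}
    {snd : P ⟶ (yon S).obj T} (sq : IsPullback fst snd f g) {W : Over S} (e : (yon S).obj W ≅ P) :
    ∃ (i : W ⟶ T) (fst' : (yon S).obj W ⟶ X), IsPullback fst' ((yon S).map i) f g := by
  obtain ⟨i, hi⟩ := (yon S).map_surjective (e.hom ≫ snd)
  refine ⟨i, e.hom ≫ fst, ?_⟩
  rw [hi]
  exact IsPullback.of_iso sq e.symm (Iso.refl _) (Iso.refl _) (Iso.refl _) (by simp) (by simp) (by simp) (by simp)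

theorem isAffineMor_of_thick 
    (hX' : IsAlgSpace X') (hY' : IsAlgSpace Y') {i : X ⟶ X'} {j : Y ⟶ Y'} {f : X ⟶ Y} {f' : X' ⟶ Y'}
    (hi : IsThickMor i) (hj : IsThickMor j) (w : i ≫ f' = f ≫ j) (hf : IsAffineMor f) : IsAffineMor f' := by
  intro Z' hZ' g
  have sq' := IsPullback.of_hasPullback f' g
  obtain ⟨Z, P, k, l, g', fst, snd, hk, hl, sq, -⟩ := exists_compare hi hj w g sq'
  obtain ⟨W, hW, ⟨ε⟩⟩ := exists_affine_source (repWith_isClosedImmersion hk) hZ' (Iso.refl _)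
  obtain ⟨V, i', fst', sq1, hV⟩ := hf hW (ε.hom ≫ g')
  have sq2 : IsPullback fst (snd ≫ ε.inv) f (ε.hom ≫ g') :=
    IsPullback.of_iso sq (Iso.refl _) (Iso.refl _) ε.symm (Iso.refl _) (by simp) (by simp) (by simp) (by simp)
  let e1 : (yon S).obj V ≅ P := sq1.isoIsPullback _ _ sq2
  have hP' : IsAlgSpace (pullback f' g) :=
    K613.Chart.isAlgSpace_of_isPullback hY'.diag hX' (IsAlgSpace.yon_obj Z') sq'
  let PS : Space S := ⟨P, isAlgSpace_of_isThickMor hl hP'⟩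
  let PS' : Space S := ⟨pullback f' g, hP'⟩
  let lS : PS ⟶ PS' := ⟨l⟩
  obtain ⟨T, hT, ⟨e2⟩⟩ := exists_affine lS hl hV e1
  obtain ⟨i2, fst2, sq3⟩ := exists_isPullback_of_iso sq' e2
  exact ⟨T, i2, fst2, sq3, hT⟩

theorem isAffineMor_of_thick' {i : X ⟶ X'} {j : Y ⟶ Y'} {f : X ⟶ Y} {f' : X' ⟶ Y'}
    (hi : IsThickMor i) (hj : IsThickMor j) (w : i ≫ f' = f ≫ j) (hf : IsAffineMor f') : IsAffineMor f := by
  intro Z hZ g
  have sq := IsPullback.of_hasPullback f g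
  obtain ⟨P', l, fst', snd', hl, sq', -⟩ := exists_compare' hi hj w g sq
  obtain ⟨V, i', fst2, sq1, hV⟩ := hf hZ (g ≫ j)
  obtain ⟨W, hW, ⟨ε⟩⟩ := exists_affine_source (repWith_isClosedImmersion hl) hV (sq1.isoIsPullback _ _ sq')
  obtain ⟨i2, fst3, sq3⟩ := exists_isPullback_of_iso sq ε
  exact ⟨W, i2, fst3, sq3, hW⟩

theorem isAffineMor_iff 
    (hX' : IsAlgSpace X') (hY' : IsAlgSpace Y') {i : X ⟶ X'} {j : Y ⟶ Y'} {f : X ⟶ Y} {f' : X' ⟶ Y'}
    (hi : IsThickMor i) (hj : IsThickMor j) (w : i ≫ f' = f ≫ j) : IsAffineMor f ↔ IsAffineMor f' :=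
  ⟨isAffineMor_of_thick hX' hY' hi hj w, isAffineMor_of_thick' hi hj w⟩

theorem isIntegralMor_iff (hX' : IsAlgSpace X') (hY' : IsAlgSpace Y') {i : X ⟶ X'} {j : Y ⟶ Y'} {f : X ⟶ Y}
    {f' : X' ⟶ Y'} (hi : IsThickMor i) (hj : IsThickMor j) (w : i ≫ f' = f ≫ j) :
    IsIntegralMor f ↔ IsIntegralMor f' := by
  rw [K617.FinLoc.isIntegralMor_iff, K617.FinLoc.isIntegralMor_iff]
  refine ⟨K632.IntThick.repWith_isIntegralHom hX' hY' hi hj w, fun h => ?_⟩
  have := mono_of_isThickMor hj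
  have h1 : RepWith @IsIntegralHom i := ⟨hi.1, fun _ _ g fst snd sq => by
    have : IsClosedImmersion snd.left := (hi.2 g fst snd sq).1
    exact (inferInstance : IsIntegralHom snd.left)⟩
  have h2 : RepWith @IsIntegralHom (f ≫ j) := by
    rw [← w]
    exact MorphismProperty.comp_mem _ _ _ h1 h
  exact K610.OpenImm.repWith_of_comp_mono h2

end K631.AffThick
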