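import Groth.Prelude.Def_AlgSp4
import Groth.Prelude.Def_AlgSpInf

/-! Basic facts on points of sheaves and pullback squares (arbitrary fppf sheaves). -/

set_option autoImplicit false
universe u
open CategoryTheory CategoryTheory.Limits AlgebraicGeometry Opposite

namespace K631.Base

open AlgSp

variable {S : Scheme.{u}} {F G H P Z : Sp S}

/-- The point of `F` defined by a map from the spectrum of a field. -/
noncomputable def pt {K : Type u} [Field K] {str : Spec (CommRingCat.of K) ⟶ S}
    (x : (yon S).obj (Over.mk str) ⟶ F) : Points F :=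
  Points.mk ⟨K, str, (J S).uliftYonedaEquiv x⟩

theorem exists_pt (p : Points F) : ∃ (K : Type u) (_ : Field K) (str : Spec (CommRingCat.of K) ⟶ S)
    (x : (yon S).obj (Over.mk str) ⟶ F), pt x = p := by
  induction p using Points.ind with
  | h p =>
    refine ⟨p.K, p.field, p.str, (J S).uliftYonedaEquiv.symm p.val, ?_⟩
    unfold pt
    congr 1
    cases p
    simp

theorem pt_eq_pt_iff {K L : Type u} [Field K] [Field L] {str : Spec (CommRingCat.of K) ⟶ S}
    {str' : Spec (CommRingCat.of L) ⟶ S} (x : (yon S).obj (Over.mk str) ⟶ F)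
    (y : (yon S).obj (Over.mk str') ⟶ F) :
    pt x = pt y ↔ ∃ (Ω : Type u) (_ : Field Ω) (w : Spec (CommRingCat.of Ω) ⟶ S)
      (a : Over.mk w ⟶ Over.mk str) (b : Over.mk w ⟶ Over.mk str'),
      (yon S).map a ≫ x = (yon S).map b ≫ y := by
  unfold pt
  rw [Points.mk_eq_mk_iff]
  unfold FieldPt.Rel
  refine exists_congr fun Ω => exists_congr fun _ => exists_congr fun w => exists_congr fun a =>
    exists_congr fun b => ?_
  dsimp only
  erw [(J S).uliftYonedaEquiv_naturality x a, (J S).uliftYonedaEquiv_naturality y b]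
  exact (J S).uliftYonedaEquiv.injective.eq_iff

theorem map_pt {K : Type u} [Field K] {str : Spec (CommRingCat.of K) ⟶ S}
    (x : (yon S).obj (Over.mk str) ⟶ F) (f : F ⟶ G) : Points.map f (pt x) = pt (x ≫ f) := rfl

theorem pt_comp {K L : Type u} [Field K] [Field L] {str : Spec (CommRingCat.of K) ⟶ S}
    {str' : Spec (CommRingCat.of L) ⟶ S} (a : Over.mk str' ⟶ Over.mk str)
    (x : (yon S).obj (Over.mk str) ⟶ F) : pt ((yon S).map a ≫ x) = pt x := by
  rw [pt_eq_pt_iff]
  exact ⟨L, inferInstance, str', 𝟙 _, a, by rw [(yon S).map_id, Category.id_comp]⟩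

/-- The canonical map `Spec κ(t) ⟶ T` over `S`. -/
noncomputable def resPt (T : Over S) (t : ↥T.left) :
    Over.mk (T.left.fromSpecResidueField t ≫ T.hom) ⟶ T :=
  Over.homMk (T.left.fromSpecResidueField t) rfl

theorem ofPt_eq_pt {T : Over S} (g : (yon S).obj T ⟶ F) (t : ↥T.left) :
    Points.ofPt g t = pt ((yon S).map (resPt T t) ≫ g) := by
  unfold pt Points.ofPt FieldPt.ofPt
  congr 2

/-- A map from the spectrum of a field to `F` through a scheme `T` defines the point `ofPt` of the
image point. -/
theorem pt_eq_ofPt {T : Over S} (g : (yon S).obj T ⟶ F) {K : Type u} [Field K]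
    {str : Spec (CommRingCat.of K) ⟶ S} (m : Over.mk str ⟶ T) :
    pt ((yon S).map m ≫ g) = Points.ofPt g (m.left (IsLocalRing.closedPoint K)) := by
  have h1 : pt ((yon S).map m) = Points.ofScheme T (m.left (IsLocalRing.closedPoint K)) := by
    have := Points.ofScheme_apply_eq_mk T m.left (Over.w m)
    rw [this]
    unfold pt
    congr 2
  rw [← map_pt, h1, Points.map_ofPt, Category.id_comp]

/-- Points of a pullback of arbitrary sheaves. -/
theorem exists_of_isPullback {fst : P ⟶ F} {snd : P ⟶ Z} {f : F ⟶ G} {g : Z ⟶ G}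
    (sq : IsPullback fst snd f g) (x : Points F) (z : Points Z)
    (e : Points.map f x = Points.map g z) :
    ∃ p : Points P, Points.map fst p = x ∧ Points.map snd p = z := by
  obtain ⟨K, _, str, x, rfl⟩ := exists_pt x
  obtain ⟨L, _, str', z, rfl⟩ := exists_pt z
  rw [map_pt, map_pt, pt_eq_pt_iff] at e
  obtain ⟨Ω, _, w, a, b, h⟩ := e
  rw [← Category.assoc, ← Category.assoc] at h
  refine ⟨pt (sq.lift _ _ h), ?_, ?_⟩
  · rw [map_pt, sq.lift_fst, pt_comp]
  · rw [map_pt, sq.lift_snd, pt_comp]

theorem range_map_snd {fst : P ⟶ F} {snd : P ⟶ Z} {f : F ⟶ G} {g : Z ⟶ G}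
    (sq : IsPullback fst snd f g) :
    Set.range (Points.map snd) = Points.map g ⁻¹' Set.range (Points.map f) := by
  ext z
  constructor
  · rintro ⟨p, rfl⟩
    exact ⟨Points.map fst p, by rw [← Points.map_comp, ← Points.map_comp, sq.w]⟩
  · rintro ⟨x, hx⟩
    obtain ⟨p, -, hp⟩ := exists_of_isPullback sq x z hx
    exact ⟨p, hp⟩

/-- Every point of `h_T` comes from a point of `T`. -/
theorem exists_ofScheme {T : Over S} (x : Points ((yon S).obj T)) :
    ∃ t : ↥T.left, Points.ofScheme T t = x :=
  ⟨Points.toScheme T x, Points.ofScheme_toScheme T x⟩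

theorem ofPt_comp {T : Over S} (g : (yon S).obj T ⟶ F) (x : ↥T.left) (f : F ⟶ G) :
    Points.ofPt (g ≫ f) x = Points.map f (Points.ofPt g x) := rfl

theorem ofPt_map_comp {T T' : Over S} (φ : T ⟶ T') (g : (yon S).obj T' ⟶ F) (t : ↥T.left) :
    Points.ofPt ((yon S).map φ ≫ g) t = Points.ofPt g (φ.left t) := by
  rw [← Points.map_ofPt]
  have : Points.ofPt ((yon S).map φ) t = Points.ofScheme T' (φ.left t) := by
    apply (Points.schemeEquiv T').symm.injective
    exact (Points.toScheme_ofPt φ t).trans (Points.toScheme_ofScheme T' _).symm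
  rw [this, Points.map_ofPt, Category.id_comp]

/-- Points of a pullback with a scheme leg. -/
theorem exists_of_isPullback_yon {fst : P ⟶ F} {T : Over S} {snd : P ⟶ (yon S).obj T} {f : F ⟶ G}
    {g : (yon S).obj T ⟶ G} (sq : IsPullback fst snd f g) (x : Points F) (t : ↥T.left)
    (e : Points.map f x = Points.ofPt g t) :
    ∃ p : Points P, Points.map fst p = x ∧ Points.map snd p = Points.ofScheme T t := by
  refine exists_of_isPullback sq x _ ?_
  rw [e, Points.ofPt_eq_map_ofScheme]

/-- Points of a represented pullback. -/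
theorem exists_of_isPullback_rep {W T : Over S} {fst : (yon S).obj W ⟶ F} {snd : W ⟶ T} {f : F ⟶ G}
    {g : (yon S).obj T ⟶ G} (sq : IsPullback fst ((yon S).map snd) f g) (x : Points F) (t : ↥T.left)
    (e : Points.map f x = Points.ofPt g t) :
    ∃ w : ↥W.left, Points.ofPt fst w = x ∧ snd.left w = t := by
  obtain ⟨p, h1, h2⟩ := exists_of_isPullback_yon sq x t e
  obtain ⟨w, rfl⟩ := exists_ofScheme p
  refine ⟨w, ?_, ?_⟩
  · rw [← h1, Points.map_ofPt, Category.id_comp]
  · rw [Points.map_ofPt, Category.id_comp] at h2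
    have := congrArg (Points.toScheme T) h2
    rwa [Points.toScheme_ofPt, Points.toScheme_ofScheme] at this

theorem ofPt_fst_eq {W T : Over S} {fst : (yon S).obj W ⟶ F} {snd : W ⟶ T} {f : F ⟶ G}
    {g : (yon S).obj T ⟶ G} (sq : IsPullback fst ((yon S).map snd) f g) (w : ↥W.left) :
    Points.map f (Points.ofPt fst w) = Points.ofPt g (snd.left w) := by
  rw [Points.map_ofPt, sq.w, ofPt_map_comp]

/-- The range of a represented pullback. -/
theorem range_snd_left {W T : Over S} {fst : (yon S).obj W ⟶ F} {snd : W ⟶ T} {f : F ⟶ G}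
    {g : (yon S).obj T ⟶ G} (sq : IsPullback fst ((yon S).map snd) f g) :
    Set.range snd.left = Points.ofPt g ⁻¹' Set.range (Points.map f) := by
  ext t
  constructor
  · rintro ⟨w, rfl⟩
    exact ⟨Points.ofPt fst w, ofPt_fst_eq sq w⟩
  · rintro ⟨x, hx⟩
    obtain ⟨w, -, hw⟩ := exists_of_isPullback_rep sq x t hx
    exact ⟨w, hw⟩

/-- Representable surjective implies surjective on points. -/
theorem surjective_map_of_repWith {f : F ⟶ G} (hf : RepWith @Surjective f) :
    Function.Surjective (Points.map f) := by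
  intro y
  obtain ⟨K, _, str, y, rfl⟩ := exists_pt y
  have sq := hf.rep.isPullback y
  have hs : Surjective (hf.rep.snd y).left := hf.property_snd y
  have hw := range_snd_left sq
  rw [Set.range_eq_univ.2 hs.surj] at hw
  have : IsLocalRing.closedPoint K ∈ (Set.univ : Set ↥(Over.mk str).left) := Set.mem_univ _
  rw [hw] at this
  obtain ⟨x, hx⟩ := this
  refine ⟨x, hx.trans ?_⟩
  have := pt_eq_ofPt y (𝟙 (Over.mk str))
  rw [(yon S).map_id, Category.id_comp] at this
  exact this.symm

theorem ofPt_surjective_of_repWith {T : Over S} {g : (yon S).obj T ⟶ G} (hg : RepWith @Surjective g) :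
    Function.Surjective (Points.ofPt g) := by
  intro y
  obtain ⟨x, rfl⟩ := surjective_map_of_repWith hg y
  obtain ⟨t, rfl⟩ := exists_ofScheme x
  exact ⟨t, by rw [Points.map_ofPt, Category.id_comp]⟩

/-- A representable morphism which is surjective on points is representable surjective. -/
theorem repWith_surjective_of_map {f : F ⟶ G} (hf : Representable f)
    (h : Function.Surjective (Points.map f)) : RepWith @Surjective f := by
  refine ⟨hf, fun U V g fst snd sq => ?_⟩
  constructor
  rw [← Set.range_eq_univ]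
  have := range_snd_left sq
  rw [Set.range_eq_univ.2 h, Set.preimage_univ] at this
  exact this

theorem repWith_surjective_iff {f : F ⟶ G} (hf : Representable f) :
    RepWith @Surjective f ↔ Function.Surjective (Points.map f) :=
  ⟨surjective_map_of_repWith, repWith_surjective_of_map hf⟩

/-- Surjectivity on points is stable under base change. -/
theorem surjective_map_snd {fst : P ⟶ F} {snd : P ⟶ Z} {f : F ⟶ G} {g : Z ⟶ G}
    (sq : IsPullback fst snd f g) (h : Function.Surjective (Points.map f)) :
    Function.Surjective (Points.map snd) := by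
  rw [← Set.range_eq_univ, range_map_snd sq, Set.range_eq_univ.2 h, Set.preimage_univ]

end K631.Base
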