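import Groth.Agent.AlgSp.K603.ClChain
import Groth.Agent.AlgSp.K647.QcIdl
import Groth.Agent.AlgSp.K610.Factor
import Groth.Agent.AlgSp.K597.LocP
import Groth.Agent.AlgSp.K597.EtLoc
import Groth.Agent.AlgSp.K596.QC

/-!
# Closed subspaces of a qcqs algebraic space are cofiltered limits of closed subspaces of finite presentation

`exists_lim`: for a closed immersion `i : Z ⟶ Y`, `Y` quasi-compact and quasi-separated over the quasi-separated `S`.
-/

set_option autoImplicit false
set_option backward.isDefEq.respectTransparency false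
universe u
open CategoryTheory CategoryTheory.Limits AlgebraicGeometry Opposite

namespace K631.ClLim

open AlgSp K598.ClFam K598.Charts K647.FamOps K647.QcIdl K603.ClChain BlowUp

variable {S : Scheme.{u}} {Y Z : Sp S}

theorem isFiniteTypeIdeal_ofIdealTop {V : Scheme.{u}} [IsAffine V] {I : Ideal Γ(V, ⊤)} (h : I.FG) :
    IsFiniteTypeIdeal (Scheme.IdealSheafData.ofIdealTop I) := fun U => by
  rw [Scheme.IdealSheafData.ofIdealTop_ideal]
  exact h.map _

/-- Every section of an ideal sheaf on an affine scheme lies in a finite type subideal. -/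
theorem le_of_forall_ft {V : Scheme.{u}} [IsAffine V] {I J : V.IdealSheafData}
    (h : ∀ K : V.IdealSheafData, IsFiniteTypeIdeal K → K ≤ I → K ≤ J) : I ≤ J := by
  refine Scheme.IdealSheafData.le_of_isAffine fun x hx => ?_
  have h1 := h (Scheme.IdealSheafData.ofIdealTop (Ideal.span {x}))
    (isFiniteTypeIdeal_ofIdealTop (Submodule.fg_span_singleton x)) (Scheme.IdealSheafData.le_of_isAffine (by
      simpa [Ideal.span_le] using hx))
  have h2 := h1 ⟨⊤, isAffineOpen_top V⟩
  rw [Scheme.IdealSheafData.ofIdealTop_ideal] at h2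
  refine h2 ?_
  simp

/-- Closed immersions into a qcqs algebraic space are limits of closed immersions of finite presentation. -/
theorem exists_lim [QuasiSeparatedSpace S] (Y : Space S) (hqc : IsQuasiCompactSp Y.obj)
    (hqs : IsQuasiSeparatedSp Y.obj) {i : Z ⟶ Y.obj} (hi : RepWith @IsClosedImmersion i) :
    ∃ (I : Type u) (_ : Preorder I) (_ : IsDirected I (fun a b => a ≤ b)) (_ : Nonempty I) (F : I → Fam Y.obj)
      (hF : Monotone F) (e : (cone F hF).pt ≅ Z), Nonempty (IsLimit (cone F hF)) ∧ (∀ a, FT (F a)) ∧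
      (∀ a, e.inv ≫ trans (le_sup F a) ≫ (F a).ι = i) := by
  obtain ⟨W, p, hW, hp, hps⟩ := K609.QC.exists_affine_chart hqc
  have hch := ChartFam.single hp hps
  have hQC := qc_of_qcqs Y hqc hqs
  let A := ofClosed i hi
  let I : Type u := {K : W.left.IdealSheafData // ∃ B : Fam Y.obj, B ≤ A ∧ FT B ∧ B.I p = K}
  let F : I → Fam Y.obj := fun K => K.2.choose
  have hFA : ∀ K : I, F K ≤ A := fun K => K.2.choose_spec.1
  have hFT : ∀ K : I, FT (F K) := fun K => K.2.choose_spec.2.1
  have hFp : ∀ K : I, (F K).I p = K.1 := fun K => K.2.choose_spec.2.2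
  have hF : Monotone F := fun K L h => hch.le_of_le fun _ => by rw [hFp, hFp]; exact h
  have hex : ∀ K : W.left.IdealSheafData, IsFiniteTypeIdeal K → K ≤ A.I p → ∃ L : I, K ≤ (F L).I p := by
    intro K hK hKA
    obtain ⟨B, h1, h2, h3⟩ := hQC A W p K hK hKA
    exact ⟨⟨B.I p, B, h1, h2, rfl⟩, by rw [hFp]; exact h3⟩
  have hne : Nonempty I := by
    obtain ⟨L, -⟩ := hex (Scheme.IdealSheafData.ofIdealTop ⊥) (isFiniteTypeIdeal_ofIdealTop Submodule.fg_bot)
      (Scheme.IdealSheafData.le_of_isAffine (by simp))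
    exact ⟨L⟩
  have hdir : IsDirected I (fun a b => a ≤ b) := ⟨fun K L => by
    refine ⟨⟨(sup (F K) (F L)).I p, sup (F K) (F L), K647.FamOps.sup_le (hFA K) (hFA L), (hFT K).sup (hFT L), rfl⟩, ?_, ?_⟩
    · change K.1 ≤ (sup (F K) (F L)).I p
      rw [← hFp K]
      exact K647.FamOps.le_sup_left (F K) (F L) _ p
    · change L.1 ≤ (sup (F K) (F L)).I p
      rw [← hFp L]
      exact K647.FamOps.le_sup_right (F K) (F L) _ p⟩
  have hsup : K603.ClChain.sup F = A := by
    refine le_antisymm (Fam.sSup_le ?_) (hch.le_of_le fun _ => le_of_forall_ft fun K hK hKA => ?_)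
    · rintro _ ⟨K, rfl⟩
      exact hFA K
    · obtain ⟨L, hL⟩ := hex K hK hKA
      exact hL.trans (le_sup F L _ p)
  have h1 : ofClosed (K603.ClChain.sup F).ι (K603.ClChain.sup F).repWith_ι = ofClosed i hi := by
    rw [ofClosed_ι, hsup]
  obtain ⟨e, he1, he2⟩ := exists_iso_of_eq _ _ h1
  refine ⟨I, inferInstance, hdir, hne, F, hF, e, K603.ClChain.isLimit F hF, hFT, fun a => ?_⟩
  rw [trans_ι]
  exact he2

theorem repWith_mono {P Q : MorphismProperty Scheme.{u}} {X Y : Sp S} {f : X ⟶ Y}
    (h : ∀ ⦃A B : Scheme.{u}⦄ (g : A ⟶ B), P g → Q g) (hf : RepWith P f) : RepWith Q f :=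
  ⟨hf.1, fun _ _ g fst snd sq => h _ (hf.2 g fst snd sq)⟩

/-- A closed immersion locally of finite presentation is of finite presentation. -/
theorem isFinitePresentationMor {i : Z ⟶ Y} (h : RepWith (@IsClosedImmersion ⊓ @LocallyOfFinitePresentation) i) :
    IsFinitePresentationMor i := by
  have hc : RepWith @IsClosedImmersion i := repWith_mono (fun _ _ _ h => h.1) h
  have hm : Mono i := K610.Factor.mono_of_isClosedImmersion hc
  refine ⟨K597.locP_of_repWith (K597.etLoc_lfp).precomp (repWith_mono (fun _ _ _ h => h.2) h),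
    K596.QC.isQuasiCompactMor_of_repWith (repWith_mono (fun _ _ g h => ?_) hc), ?_⟩
  · have : IsClosedImmersion g := h
    exact (inferInstance : QuasiCompact g)
  · have : IsIso (pullback.diagonal i) := inferInstance
    exact ((MorphismProperty.isomorphisms_le_of_containsIdentities _) _ this : RepWith @QuasiCompact _)

end K631.ClLim
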