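import Groth.Agent.AlgSp.K631.Base
import Groth.Agent.AlgSp.K613.Chart
import Mathlib.AlgebraicGeometry.Morphisms.LocalFlatDescent

/-! A quasi-compact flat surjective monomorphism of algebraic spaces is an isomorphism. -/

set_option autoImplicit false
universe u
open CategoryTheory CategoryTheory.Limits AlgebraicGeometry Opposite

namespace K631.FlatIso

open AlgSp K613.Basic K613.Cover K613.Chart

variable {S : Scheme.{u}} {X Y P : Sp S}

/-- Two maps `T ⟶ Z`, `U ⟶ Z` from schemes through a monomorphism `P ⟶ h_Z`. -/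
theorem isPullback_of_mono {Z T U W : Over S} {m : P ⟶ (yon S).obj Z} [Mono m]
    (t : (yon S).obj T ⟶ P) (v : (yon S).obj U ⟶ P) {β : T ⟶ Z} {α : U ⟶ Z}
    (ht : t ≫ m = (yon S).map β) (hv : v ≫ m = (yon S).map α)
    {a : W ⟶ T} {b : W ⟶ U} (sq : IsPullback a b β α) :
    IsPullback ((yon S).map a) ((yon S).map b) t v := by
  have sq' := sq.map (yon S)
  refine ⟨⟨?_⟩, ⟨PullbackCone.IsLimit.mk _ (fun s => sq'.lift s.fst s.snd ?_) (fun s => ?_) (fun s => ?_)
    (fun s l h1 h2 => ?_)⟩⟩
  · rw [← cancel_mono m, Category.assoc, Category.assoc, ht, hv, ← Functor.map_comp, ← Functor.map_comp, sq.w]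
  · rw [← ht, ← hv, ← Category.assoc, ← Category.assoc, s.condition]
  · exact sq'.lift_fst _ _ _
  · exact sq'.lift_snd _ _ _
  · apply sq'.hom_ext
    · rw [sq'.lift_fst, h1]
    · rw [sq'.lift_snd, h2]

/-- Let `m : P ⟶ h_V` be a flat surjective quasi-compact monomorphism (tested on affine opens of `V`), `U ⟶ P` an
étale map. Then the composite `U ⟶ V` is étale. -/
theorem etale_of_mono {V U : Over S} {m : P ⟶ (yon S).obj V} [Mono m]
    (v : (yon S).obj U ⟶ P) (hv : RepWith @Etale v) {α : U ⟶ V} (hα : v ≫ m = (yon S).map α)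
    (h : ∀ W : V.left.affineOpens, ∃ (T : Over S) (t : (yon S).obj T ⟶ P) (β : T ⟶ V)
      (γ : T.left ⟶ W.1.toScheme), t ≫ m = (yon S).map β ∧ γ ≫ W.1.ι = β.left ∧ Flat γ ∧ Surjective γ ∧
      QuasiCompact γ) : Etale α.left := by
  rw [IsZariskiLocalAtTarget.iff_of_iSup_eq_top (P := @Etale) (fun W : V.left.affineOpens => W.1)
    (iSup_affineOpens_eq_top V.left)]
  intro W
  obtain ⟨T, t, β, γ, ht, hγ, h1, h2, h3⟩ := h W
  -- `T ×_V U ⟶ T` is étale
  have sq := isPullback_of_mono t v ht hα (IsPullback.of_hasPullback β α)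
  have het : Etale (pullback.fst β α).left := hv.2 _ _ _ sq.flip
  have sq2 := (IsPullback.of_hasPullback β α).map (Over.forget S)
  -- base change of `U|_W ⟶ W` along `γ`
  have sq3 : IsPullback (α.left ∣_ W.1) (α.left ⁻¹ᵁ W.1).ι W.1.ι α.left := isPullback_morphismRestrict α.left W.1
  have hw : pullback.fst β α ≫ β = pullback.snd β α ≫ α := pullback.condition
  have hw' : (pullback.fst β α).left ≫ γ ≫ W.1.ι = (pullback.snd β α).left ≫ α.left := by
    rw [hγ, ← Over.comp_left, ← Over.comp_left, hw]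
  have sq4 := IsPullback.of_right (h₁₁ := sq3.lift ((pullback.fst β α).left ≫ γ) (pullback.snd β α).left
      (by rw [Category.assoc]; exact hw')) (v₁₁ := (pullback.fst β α).left) (h₂₁ := γ)
      (by rw [sq3.lift_snd, hγ]; exact sq2.flip) (sq3.lift_fst _ _ _) sq3.flip
  exact MorphismProperty.of_isPullback_of_descendsAlong (P := @Etale) (Q := @Surjective ⊓ @Flat ⊓ @QuasiCompact)
    sq4.flip ⟨⟨h2, h1⟩, h3⟩ het

theorem surjective_left_of_ofPt {T Z : Over S} {β : T ⟶ Z}
    (h : Function.Surjective (Points.ofPt ((yon S).map β))) : Surjective β.left := by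
  constructor
  intro z
  obtain ⟨t, ht⟩ := h (Points.ofScheme Z z)
  refine ⟨t, ?_⟩
  have := congrArg (Points.toScheme Z) ht
  rwa [Points.toScheme_ofPt, Points.toScheme_ofScheme] at this

/-- A flat surjective quasi-compact monomorphism `m : P ⟶ h_V` from an algebraic space onto a scheme is étale locally
surjective. -/
theorem eSurj_of_mono {V : Over S} (hP : IsAlgSpace P) {m : P ⟶ (yon S).obj V} [Mono m]
    (hm : IsQuasiCompactMor m) (hflat : LocP @Flat m) (hs : Function.Surjective (Points.map m)) :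
    ESurj m := by
  obtain ⟨U, v, hv⟩ := exists_ch hP
  obtain ⟨α, hα⟩ := (yon S).map_surjective (v ≫ m)
  have hE : Etale α.left := by
    refine etale_of_mono v hv.et hα.symm fun W => ?_
    have hWa : IsAffine W.1.toScheme := W.2
    -- the affine open `W` as a scheme over `S`
    let Z : Over S := Over.mk (W.1.ι ≫ V.hom)
    let j : Z ⟶ V := Over.homMk W.1.ι rfl
    have sq := IsPullback.of_hasPullback m ((yon S).map j)
    have hZ : IsQuasiCompactSp ((yon S).obj Z) :=
      ⟨Z, 𝟙 _, repWith_id _ _, repWith_id _ _, (inferInstance : CompactSpace W.1.toScheme)⟩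
    obtain ⟨T, t, ht1, ht2, hT⟩ := hm (IsAlgSpace.yon_obj Z) hZ _ _ _ sq
    obtain ⟨β, hβ⟩ := (yon S).map_surjective (t ≫ pullback.snd m ((yon S).map j))
    have hw : (t ≫ pullback.fst m ((yon S).map j)) ≫ m = (yon S).map β ≫ (yon S).map j := by
      rw [Category.assoc, pullback.condition, ← Category.assoc, ← hβ]
    have hj : RepWith @Etale ((yon S).map j) :=
      (repWith_yon_map_iff _ _).2 (show Etale W.1.ι from inferInstance)
    have het : RepWith @Etale (t ≫ pullback.fst m ((yon S).map j)) :=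
      MorphismProperty.comp_mem _ _ _ ht1 (MorphismProperty.of_isPullback sq.flip hj)
    refine ⟨T, t ≫ pullback.fst m ((yon S).map j), β ≫ j, β.left, by rw [hw, Functor.map_comp], rfl,
      hflat _ _ β het hj hw, ?_, ?_⟩
    · apply surjective_left_of_ofPt
      rw [hβ]
      have h1 := K631.Base.surjective_map_snd sq hs
      have h2 := K631.Base.ofPt_surjective_of_repWith ht2
      intro z
      obtain ⟨p, rfl⟩ := h1 z
      obtain ⟨t', rfl⟩ := h2 p
      exact ⟨t', rfl⟩
    · have : CompactSpace T.left := hT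
      exact @quasiCompact_of_compactSpace T.left W.1.toScheme β.left this inferInstance
  have hS : Surjective α.left := by
    apply surjective_left_of_ofPt
    rw [hα]
    intro z
    obtain ⟨p, rfl⟩ := hs z
    obtain ⟨t', rfl⟩ := K631.Base.ofPt_surjective_of_repWith hv.surj p
    exact ⟨t', rfl⟩
  have h1 : ESurj ((yon S).map α) := EtC.eSurj ⟨hE, hS⟩
  rw [hα] at h1
  exact h1.of_comp

/-- Base change of `LocP P f` along a étale map to the target. -/
theorem locP_snd_of_etale {Pr : MorphismProperty Scheme.{u}} {Z : Sp S} {f : X ⟶ Y} (hf : LocP Pr f) {q : Z ⟶ Y}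
    (hq : RepWith @Etale q) {fst : P ⟶ X} {snd : P ⟶ Z} (sq : IsPullback fst snd f q) : LocP Pr snd := by
  intro U V a b h ha hb w
  refine hf (a ≫ fst) (b ≫ q) h (MorphismProperty.comp_mem _ _ _ ha (MorphismProperty.of_isPullback sq.flip hq))
    (MorphismProperty.comp_mem _ _ _ hb hq) ?_
  rw [Category.assoc, sq.w, ← Category.assoc, w, Category.assoc]

/-- Quasi-compact morphisms are stable under base change. -/
theorem isQuasiCompactMor_snd {Z : Sp S} {f : X ⟶ Y} (hf : IsQuasiCompactMor f) {q : Z ⟶ Y}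
    {fst : P ⟶ X} {snd : P ⟶ Z} (sq : IsPullback fst snd f q) : IsQuasiCompactMor snd :=
  fun _ _ h1 h2 g _ _ sq' => hf h1 h2 (g ≫ q) _ _ (sq'.paste_horiz sq)

theorem isIso_of_mono (hX : IsAlgSpace X) (hY : IsAlgSpace Y) (f : X ⟶ Y) [Mono f] (hqc : IsQuasiCompactMor f)
    (hflat : LocP @Flat f) (hs : IsSurjectiveMor f) : IsIso f := by
  obtain ⟨V, q, hq⟩ := exists_ch hY
  have sq := IsPullback.of_hasPullback f q
  have hP : IsAlgSpace (pullback f q) := isAlgSpace_pullback hX (IsAlgSpace.yon_obj V) hY f q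
  have h1 : ESurj (pullback.snd f q) := eSurj_of_mono hP (isQuasiCompactMor_snd hqc sq)
    (locP_snd_of_etale hflat hq.et sq) (K631.Base.surjective_map_snd sq hs)
  have : IsIso (pullback.snd f q) := h1.fSurj.isIso_of_mono
  exact hq.fSurj.isIso sq

end K631.FlatIso
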