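import Groth.Agent.AlgSp.K631.FlatSpread
import Groth.Agent.AlgSp.K631.FlatIso
import Groth.Agent.AlgSp.K631.ThickMor
import Groth.Agent.AlgSp.K610.ZarGlue
import Groth.Agent.AlgSp.K597.Affine
import Groth.Agent.AlgSp.K597.EtLoc
import Groth.Agent.AlgSp.K597.LocP

/-! Flat monomorphisms of algebraic spaces are representable. -/

set_option autoImplicit false
universe u
open CategoryTheory CategoryTheory.Limits AlgebraicGeometry Opposite

namespace K631.FlatMono

open AlgSp K613.Basic K613.Cover K613.Chart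

variable {S : Scheme.{u}} {P Q : Sp S}

theorem repWith_yon_of_mono {P : MorphismProperty Scheme.{u}} [P.IsStableUnderBaseChange] {U V : Over S} {f : U ⟶ V}
    (h : P f.left) : RepWith P ((yon S).map f) := (repWith_yon_map_iff _ _).2 h

/-- The sheaf part: `b : Q ⟶ h_D` a monomorphism, `g : h_U ⟶ Q` and `w : W ⟶ D` with `U ⟶ W` a monomorphism such that
`U ×_D W ⟶ W` factors through `U`; the points of `Q` come from `U` étale locally. -/
theorem isPullback_of_data {D U W : Over S} {b : Q ⟶ (yon S).obj D} [Mono b] {g : (yon S).obj U ⟶ Q}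
    {f : U ⟶ D} (hg : g ≫ b = (yon S).map f) {w : W ⟶ D} {φ : U ⟶ W} (hφ : φ ≫ w = f) (hm : Mono φ)
    (hgs : FSurj g)
    (h : ∀ (Z : Over S) (a : Z ⟶ U) (y : Z ⟶ W), a ≫ f = y ≫ w → ∃ c : Z ⟶ U, c ≫ φ = y) :
    IsPullback g ((yon S).map φ) b ((yon S).map w) := by
  have hw : g ≫ b = (yon S).map φ ≫ (yon S).map w := by rw [hg, ← Functor.map_comp, hφ]
  let k : (yon S).obj U ⟶ pullback b ((yon S).map w) := pullback.lift g ((yon S).map φ) hw
  have hk1 : k ≫ pullback.fst b ((yon S).map w) = g := pullback.lift_fst _ _ _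
  have hk2 : k ≫ pullback.snd b ((yon S).map w) = (yon S).map φ := pullback.lift_snd _ _ _
  have hφm : Mono ((yon S).map φ) := by
    refine mono_of_injective fun T x y hxy => ?_
    obtain ⟨x, rfl⟩ := (yon S).map_surjective x
    obtain ⟨y, rfl⟩ := (yon S).map_surjective y
    rw [← Functor.map_comp, ← Functor.map_comp] at hxy
    rw [(cancel_mono φ).mp ((yon S).map_injective hxy)]
  have hkm : Mono k := by
    have : Mono (k ≫ pullback.snd b ((yon S).map w)) := by rw [hk2]; exact hφm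
    exact mono_of_mono k (pullback.snd b ((yon S).map w))
  have hks : FSurj k := by
    intro Z z
    obtain ⟨y, hy⟩ := (yon S).map_surjective (z ≫ pullback.snd b ((yon S).map w))
    obtain ⟨Z', c, a, hc, ha⟩ := hgs Z (z ≫ pullback.fst b ((yon S).map w))
    obtain ⟨a, rfl⟩ := (yon S).map_surjective a
    have h1 : a ≫ f = (c ≫ y) ≫ w := by
      apply (yon S).map_injective
      rw [Functor.map_comp, ← hg, ← Category.assoc, ha, Functor.map_comp, Functor.map_comp, hy]
      simp only [Category.assoc]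
      rw [pullback.condition]
    obtain ⟨e, he⟩ := h Z' a (c ≫ y) h1
    refine ⟨Z', c, (yon S).map e, hc, ?_⟩
    have : Mono (pullback.snd b ((yon S).map w)) := inferInstance
    rw [← cancel_mono (pullback.snd b ((yon S).map w)), Category.assoc, hk2, ← Functor.map_comp, he,
      Functor.map_comp, hy, Category.assoc]
  have hki : IsIso k := hks.isIso_of_mono
  have := IsPullback.of_hasPullback b ((yon S).map w)
  refine IsPullback.of_iso this (asIso k).symm (Iso.refl _) (Iso.refl _) (Iso.refl _) ?_ ?_ ?_ ?_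
  · simp only [Iso.symm_hom, asIso_inv, Iso.refl_hom, Category.comp_id]
    rw [IsIso.eq_inv_comp, hk1]
  · simp only [Iso.symm_hom, asIso_inv, Iso.refl_hom, Category.comp_id]
    rw [IsIso.eq_inv_comp, hk2]
  · simp
  · simp

/-- Around every point, a flat monomorphism to a scheme is an affine scheme. -/
theorem exists_open {T : Over S} (hP : IsAlgSpace P) (m : P ⟶ (yon S).obj T) [Mono m] (hflat : LocP @Flat m)
    (x : Points P) : ∃ (D' : Over S) (o : (yon S).obj D' ⟶ P), RepWith @IsOpenImmersion o ∧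
      x ∈ Set.range (Points.map o) := by
  obtain ⟨V, v, hv⟩ := exists_ch hP
  obtain ⟨α, hα⟩ := (yon S).map_surjective (v ≫ m)
  obtain ⟨y, rfl⟩ := K610.Base.surjective_ofPt hv.surj x
  -- affine charts
  obtain ⟨T₀, hT₀, hyT₀, -⟩ := exists_isAffineOpen_mem_and_subset (x := α.left y) (U := ⊤) (by trivial)
  obtain ⟨R, iT, hiT, hiTr⟩ : ∃ (R : CommRingCat.{u}) (iT : Spec R ⟶ T.left), IsOpenImmersion iT ∧
      Set.range iT = T₀ := ⟨_, hT₀.fromSpec, inferInstance, hT₀.range_fromSpec⟩
  obtain ⟨U₀, hU₀, hyU₀, hU₀T⟩ := exists_isAffineOpen_mem_and_subset (x := y) (U := α.left ⁻¹ᵁ T₀) hyT₀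
  let TR : Over S := Over.mk (iT ≫ T.hom)
  let ιT : TR ⟶ T := Over.homMk iT rfl
  have hιm : Mono ιT := (Over.forget S).mono_of_mono_map (inferInstanceAs (Mono iT))
  let U : Over S := Over.mk (U₀.ι ≫ V.hom)
  let ιU : U ⟶ V := Over.homMk U₀.ι rfl
  have hr : Set.range (U₀.ι ≫ α.left) ⊆ Set.range iT := by
    rintro _ ⟨z, rfl⟩
    rw [hiTr]
    exact hU₀T z.2
  let f : (U₀ : Scheme.{u}) ⟶ Spec R := IsOpenImmersion.lift iT (U₀.ι ≫ α.left) hr
  have hf : f ≫ iT = U₀.ι ≫ α.left := IsOpenImmersion.lift_fac _ _ _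
  let F : U ⟶ TR := Over.homMk f (by
    change f ≫ iT ≫ T.hom = U₀.ι ≫ V.hom
    rw [← Category.assoc, hf, Category.assoc, Over.w α])
  have hF : F ≫ ιT = ιU ≫ α := by
    ext1
    exact hf
  let p : (yon S).obj U ⟶ P := (yon S).map ιU ≫ v
  have hιUe : RepWith @Etale ((yon S).map ιU) := repWith_yon_of_mono (show Etale U₀.ι from inferInstance)
  have hp : RepWith @Etale p := MorphismProperty.comp_mem _ _ _ hιUe hv.et
  have hpm : p ≫ m = (yon S).map (F ≫ ιT) := by
    rw [hF, Functor.map_comp, hα, Category.assoc]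
  have hιT : RepWith @IsOpenImmersion ((yon S).map ιT) := repWith_yon_of_mono (show IsOpenImmersion iT from hiT)
  have hιTe : RepWith @Etale ((yon S).map ιT) := K610.OpenImm.repWith_etale_of_open hιT
  have hfl : Flat f := hflat p ((yon S).map ιT) F hp hιTe (by rw [hpm, Functor.map_comp])
  have hU₀a : IsAffine (U₀ : Scheme.{u}) := hU₀
  -- `U ×_T U ⟶ U` is étale
  have sq₀ := IsPullback.of_hasPullback F F
  have sq₁ := K631.FlatIso.isPullback_of_mono p p hpm hpm (K631.ThickMor.isPullback_comp_mono sq₀ ιT)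
  have he₀ : Etale (pullback.fst F F).left := hp.2 _ _ _ sq₁.flip
  have sq₂ : IsPullback (pullback.fst F F).left (pullback.snd F F).left f f := sq₀.map (Over.forget S)
  have he : Etale (pullback.fst f f) := by
    rw [← sq₂.isoPullback_inv_fst]
    infer_instance
  let u : (U₀ : Scheme.{u}) := ⟨y, hyU₀⟩
  obtain ⟨D, U', W, hD, hU', hW, d, hd, j, f', w, φ, sq, hud, hw, hws, hφ, hφm, hφ'⟩ :=
    K631.Spread.exists_core (R := R) f he u
  let DO : Over S := Over.mk (d ≫ TR.hom)
  let dO : DO ⟶ TR := Over.homMk d rfl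
  let UO : Over S := Over.mk (j ≫ U.hom)
  let jO : UO ⟶ U := Over.homMk j rfl
  let fO : UO ⟶ DO := Over.homMk f' (by
    change f' ≫ d ≫ TR.hom = j ≫ U.hom
    rw [← Category.assoc, ← sq.w, Category.assoc]
    exact congrArg (j ≫ ·) (Over.w F))
  let WO : Over S := Over.mk (w ≫ DO.hom)
  let wO : WO ⟶ DO := Over.homMk w rfl
  let φO : UO ⟶ WO := Over.homMk φ (by
    change φ ≫ w ≫ DO.hom = j ≫ U.hom
    rw [← Category.assoc, hφ]
    exact Over.w fO)
  have hfd : fO ≫ dO = jO ≫ F := by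
    ext1
    exact sq.w.symm
  have hφO : φO ≫ wO = fO := by
    ext1
    exact hφ
  have hφOm : Mono φO := (Over.forget S).mono_of_mono_map (inferInstanceAs (Mono φ))
  have hdO : RepWith @IsOpenImmersion ((yon S).map dO) := repWith_yon_of_mono (show IsOpenImmersion d from hd)
  -- the image of `U` in `P`
  obtain ⟨P', o₁, ho₁, hr₁⟩ := K610.Sub.exists_open_subspace ⟨P, hP⟩ (Set.range (Points.ofPt p))
    (K610.Base.isOpenMap_ofPt_etale hp).isOpen_range
  obtain ⟨p', hp'o, hp'e, hp's⟩ := K610.OpenImm.exists_corestrict hP ho₁ hr₁ @Etale hp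
  have ho₁m : Mono o₁.hom := K610.Factor.mono_of_isOpenImmersion ho₁
  have hm'm : Mono (o₁.hom ≫ m) := inferInstance
  let t : (yon S).obj DO ⟶ (yon S).obj T := (yon S).map (dO ≫ ιT)
  have ht : RepWith @IsOpenImmersion t := by
    change RepWith @IsOpenImmersion ((yon S).map (dO ≫ ιT))
    rw [Functor.map_comp]
    exact MorphismProperty.comp_mem _ _ _ hdO hιT
  let b := pullback.snd (o₁.hom ≫ m) t
  let c := pullback.fst (o₁.hom ≫ m) t
  have hc : RepWith @IsOpenImmersion c :=
    MorphismProperty.of_isPullback (P := RepWith @IsOpenImmersion) (IsPullback.of_hasPullback (o₁.hom ≫ m) t).flip ht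
  have hbm : Mono b := inferInstance
  have hgw : ((yon S).map jO ≫ p') ≫ (o₁.hom ≫ m) = (yon S).map fO ≫ t := by
    rw [Category.assoc, ← Category.assoc p', hp'o, hpm, ← Functor.map_comp, ← Functor.map_comp]
    rw [← Category.assoc, ← hfd, Category.assoc]
  let g : (yon S).obj UO ⟶ pullback (o₁.hom ≫ m) t := pullback.lift ((yon S).map jO ≫ p') ((yon S).map fO) hgw
  have hg1 : g ≫ c = (yon S).map jO ≫ p' := pullback.lift_fst _ _ _
  have hg2 : g ≫ b = (yon S).map fO := pullback.lift_snd _ _ _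
  -- `g` is surjective étale locally
  have hgs : FSurj g := by
    intro Z z
    obtain ⟨zb, hzb⟩ := (yon S).map_surjective (z ≫ b)
    obtain ⟨Z', e, a, he', ha⟩ := (ESurj.of_repWith hp'e hp's).fSurj Z (z ≫ c)
    obtain ⟨a, rfl⟩ := (yon S).map_surjective a
    have h1 : a ≫ F = (e ≫ zb) ≫ dO := by
      rw [← cancel_mono ιT]
      apply (yon S).map_injective
      have h2 : (yon S).map a ≫ p' ≫ o₁.hom ≫ m = (yon S).map e ≫ z ≫ c ≫ (o₁.hom ≫ m) := by
        rw [← Category.assoc, ha]
        simp only [Category.assoc]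
      rw [← Category.assoc p', hp'o, hpm, ← Functor.map_comp] at h2
      have h3 : c ≫ (o₁.hom ≫ m) = b ≫ t := pullback.condition
      have h4 : (yon S).map (e ≫ zb ≫ dO ≫ ιT) = (yon S).map e ≫ (yon S).map zb ≫ t := by
        rw [Functor.map_comp, Functor.map_comp]
      simp only [Category.assoc]
      rw [h2, h4, h3, hzb, Category.assoc]
    have h1' : a.left ≫ f = (e ≫ zb).left ≫ d := congrArg (fun q => q.left) h1
    let a' : Z' ⟶ UO := Over.homMk (sq.lift a.left (e ≫ zb).left h1') (by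
      change sq.lift _ _ h1' ≫ j ≫ U.hom = Z'.hom
      rw [← Category.assoc, sq.lift_fst, Over.w a])
    have ha'1 : a' ≫ fO = e ≫ zb := by
      ext1
      exact sq.lift_snd _ _ _
    refine ⟨Z', e, (yon S).map a', he', ?_⟩
    rw [← cancel_mono b, Category.assoc, hg2, ← Functor.map_comp, ha'1, Functor.map_comp, hzb, Category.assoc]
  have sqb := isPullback_of_data hg2 hφO hφOm hgs (fun Z a y hay => by
    obtain ⟨c₀, hc₀⟩ := hφ' Z.left a.left y.left (congrArg (fun q => q.left) hay)
    refine ⟨Over.homMk c₀ ?_, ?_⟩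
    · change c₀ ≫ j ≫ U.hom = Z.hom
      have h3 : j ≫ U.hom = φ ≫ w ≫ DO.hom := (Over.w φO).symm
      rw [h3, ← Category.assoc, hc₀]
      exact Over.w y
    · ext1
      exact hc₀)
  have hbA : IsAffineMor b := by
    refine K597.Affine.isAffineMor_of_cover sqb (repWith_yon_of_mono (show Etale w from hw))
      (repWith_yon_of_mono (show Surjective w from hws)) ?_
    apply K597.Affine.isAffineMor_of_repWith
    apply repWith_yon_of_mono
    exact (inferInstance : IsAffineHom φ)
  obtain ⟨D', i, fst, sqi, hD'⟩ := hbA (show IsAffine DO.left from hD) (𝟙 _)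
  have hfst : IsIso fst := sqi.flip.isIso_snd_of_isIso
  refine ⟨D', fst ≫ c ≫ o₁.hom, ?_, ?_⟩
  · have h1 : RepWith @IsOpenImmersion fst := (MorphismProperty.isomorphisms_le_of_containsIdentities _) fst hfst
    exact MorphismProperty.comp_mem _ _ _ h1 (MorphismProperty.comp_mem _ _ _ hc ho₁)
  · obtain ⟨u₁, hu₁, -⟩ := Scheme.exists_preimage_of_isPullback sq u hud.choose hud.choose_spec.symm
    have e1 : (yon S).map (jO ≫ ιU) ≫ v = (g ≫ inv fst) ≫ fst ≫ c ≫ o₁.hom := by
      rw [Category.assoc, IsIso.inv_hom_id_assoc, ← Category.assoc g, hg1, Category.assoc, hp'o, Functor.map_comp,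
        Category.assoc]
    refine ⟨Points.ofPt (g ≫ inv fst) u₁, ?_⟩
    have e2 : Points.map (fst ≫ c ≫ o₁.hom) (Points.ofPt (g ≫ inv fst) u₁) =
        Points.ofPt ((yon S).map (jO ≫ ιU) ≫ v) u₁ := by
      rw [e1]
      rfl
    rw [e2, K610.Base.ofPt_map_comp]
    congr 1
    change U₀.ι (j u₁) = y
    rw [hu₁]
    rfl

/-- An algebraic space with a flat monomorphism to a scheme is a scheme. -/
theorem exists_iso_of_flat_mono {T : Over S} (hP : IsAlgSpace P) (m : P ⟶ (yon S).obj T) [Mono m]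
    (hflat : LocP @Flat m) : ∃ H : Over S, Nonempty ((yon S).obj H ≅ P) := by
  obtain ⟨V, v, hv⟩ := exists_ch hP
  choose D o ho hx using fun y : V.left => exists_open hP m hflat (Points.ofPt v y)
  obtain ⟨H, e, -⟩ := K610.ZarGlue.exists_iso_of_openCover D o ho (fun x => by
    obtain ⟨y, rfl⟩ := K610.Base.surjective_ofPt hv.surj x
    exact ⟨y, hx y⟩)
  exact ⟨H, ⟨e⟩⟩

/-- A flat monomorphism of algebraic spaces is representable. -/
theorem representable_of_flat_mono {X Y : Sp S} (hX : IsAlgSpace X) (hY : IsAlgSpace Y) (f : X ⟶ Y) [Mono f]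
    (hflat : LocP @Flat f) : Representable f := by
  intro T g
  have sq := IsPullback.of_hasPullback f g
  have hP : IsAlgSpace (pullback f g) := isAlgSpace_pullback hX (IsAlgSpace.yon_obj T) hY f g
  have h1 : LocP @Flat (pullback.snd f g) := K597.locP_bc K597.etLoc_flat sq hX.hasAtlas hY.hasAtlas
    (IsAlgSpace.yon_obj T).hasAtlas hflat
  obtain ⟨H, ⟨e⟩⟩ := exists_iso_of_flat_mono hP (pullback.snd f g) h1
  obtain ⟨i, hi⟩ := (yon S).map_surjective (e.hom ≫ pullback.snd f g)
  refine ⟨H, i, e.hom ≫ pullback.fst f g, ?_⟩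
  refine IsPullback.of_iso sq e.symm (Iso.refl _) (Iso.refl _) (Iso.refl _) ?_ ?_ ?_ ?_
  · simp
  · simp [hi]
  · simp
  · simp

end K631.FlatMono
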