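import Groth.Agent.AlgSp.K631.Spread

/-!
# Flat morphisms `f : U ⟶ T` of affine schemes with `U ×_T U ⟶ U` étale

Around every point of the image, `f` is the restriction of an étale cover of an open of `T` to a "subobject" of `T`:
see `exists_core`.
-/

set_option autoImplicit false
universe u
open CategoryTheory CategoryTheory.Limits AlgebraicGeometry Opposite

namespace K631.Spread

open Groth.Agent.Sga7.H301.PGrp Groth.Agent.Sga3B.LocLim789

theorem etale_fst {T U A B P : Scheme.{u}} {f : U ⟶ T} (he : Etale (pullback.fst f f)) (i : A ⟶ U) (j : B ⟶ U)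
    (hj : Etale j) {p : P ⟶ A} {q : P ⟶ B} (sq : IsPullback p q (i ≫ f) (j ≫ f)) : Etale p := by
  have s1 : IsPullback (pullback.snd i (pullback.fst f f) ≫ pullback.snd f f) (pullback.fst i (pullback.fst f f))
      f (i ≫ f) := by
    have h1 := IsPullback.of_hasPullback i (pullback.fst f f)
    have h2 := IsPullback.of_hasPullback f f
    exact h1.flip.paste_horiz h2.flip
  have e1 : Etale (pullback.fst i (pullback.fst f f)) := inferInstance
  let k : P ⟶ pullback i (pullback.fst f f) := s1.lift (q ≫ j) p (by rw [Category.assoc]; exact sq.w.symm)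
  have hk1 : k ≫ pullback.fst i (pullback.fst f f) = p := s1.lift_snd _ _ _
  have hk2 : k ≫ (pullback.snd i (pullback.fst f f) ≫ pullback.snd f f) = q ≫ j := s1.lift_fst _ _ _
  have s2 : IsPullback k q (pullback.snd i (pullback.fst f f) ≫ pullback.snd f f) j :=
    IsPullback.of_right (by rw [hk1]; exact sq) hk2 s1.flip
  have e2 : Etale k := MorphismProperty.of_isPullback s2.flip hj
  rw [← hk1]
  infer_instance

/-- Étaleness over a flat base over which `f` is surjective. -/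
theorem etale_over {U T O : Scheme.{u}} (f : U ⟶ T) [Flat f] [QuasiCompact f] (he : Etale (pullback.fst f f))
    (o : O ⟶ T) (hs : Surjective (pullback.snd f o)) : Etale (pullback.snd f o) := by
  refine MorphismProperty.of_pullback_fst_of_descendsAlong (P := @Etale) (Q := @Surjective ⊓ @Flat ⊓ @QuasiCompact)
    (f := pullback.snd f o) ⟨⟨hs, inferInstance⟩, inferInstance⟩ ?_
  have h1 := (IsPullback.of_hasPullback (pullback.snd f o) (pullback.snd f o)).flip.paste_horiz
    (IsPullback.of_hasPullback f o)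
  rw [← pullback.condition] at h1
  refine etale_fst he (pullback.fst f o) (𝟙 U) inferInstance (p := pullback.fst (pullback.snd f o) (pullback.snd f o))
    (q := pullback.snd (pullback.snd f o) (pullback.snd f o) ≫ pullback.fst f o) ?_
  rw [Category.id_comp]
  exact h1.flip

section

variable {R : Type u} [CommRing R] (M : Submonoid R) (L : Type u) [CommRing L] [Algebra R L]
  [IsLocalization M L]

include M in
/-- An affine étale scheme over a localization comes from an affine étale scheme over `R`. -/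
theorem exists_etale_model {E : Scheme.{u}} [IsAffine E] (z : E ⟶ Spec (CommRingCat.of L)) [Etale z] :
    ∃ (W : Scheme.{u}) (_ : IsAffine W) (w : W ⟶ Spec (CommRingCat.of R)) (_ : Etale w) (q : E ⟶ W),
      IsPullback z q (loc R L) w := by
  let z' : E ⟶ (schCone (M := M) L).pt := z
  have hz' : Etale z' := ‹Etale z›
  obtain ⟨j, T, e, q, he, sq⟩ := Groth.Agent.Proet.EtDesc.exists_descent_scheme (schDiagram M)
    (schCone (M := M) L) (isLimitSchCone (M := M) L) (fun _ => inferInstance)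
    (inferInstanceAs (IsAffine (Spec (CommRingCat.of L)))) (E := E) z'
  let c : Spec (CommRingCat.of L) ⟶ Spec (CommRingCat.of (Stage j.unop)) := (schCone (M := M) L).π.app j
  let e' : Spec T ⟶ Spec (CommRingCat.of (Stage j.unop)) := e
  have hc : c ≫ loc R (Stage j.unop) = loc R L := cone_w L j
  have sq' : IsPullback z q c e' := sq
  have hm : Mono (loc R (Stage j.unop)) := inferInstance
  have hl : IsOpenImmersion (loc R (Stage j.unop)) := isOpenImmersion_stage M j.unop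
  have he₁ : Etale e' := he
  have he' : Etale (e' ≫ loc R (Stage j.unop)) := inferInstance
  refine ⟨Spec T, inferInstance, e' ≫ loc R (Stage j.unop), he', q, ?_⟩
  rw [← hc]
  exact ⟨⟨by rw [← Category.assoc, sq'.w, Category.assoc]⟩,
    ⟨PullbackCone.isLimitOfCompMono _ _ (loc R (Stage j.unop)) _ sq'.isLimit⟩⟩

/-- `exists_extend` without the `Over` category. -/
theorem exists_extend' {U Y Z' : Scheme.{u}} (f : U ⟶ Spec (CommRingCat.of R)) [QuasiCompact f] [QuasiSeparated f]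
    (g : Y ⟶ Spec (CommRingCat.of R)) [LocallyOfFinitePresentation g] {a : Z' ⟶ U}
    {z : Z' ⟶ Spec (CommRingCat.of L)} (h : IsPullback a z f (loc R L)) (φ' : Z' ⟶ Y)
    (hφ' : φ' ≫ g = z ≫ loc R L) :
    ∃ m ∈ M, ∃ (φ : ↑(f ⁻¹ᵁ (bo m)) ⟶ Y) (a' : Z' ⟶ ↑(f ⁻¹ᵁ (bo m))),
      φ ≫ g = (f ⁻¹ᵁ (bo m)).ι ≫ f ∧ a' ≫ (f ⁻¹ᵁ (bo m)).ι = a ∧ a' ≫ φ = φ' := by
  let ZO : Over (Spec (CommRingCat.of R)) := Over.mk f
  let YO : Over (Spec (CommRingCat.of R)) := Over.mk g
  let ZO' : Over (Spec (CommRingCat.of L)) := Over.mk z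
  have : QuasiCompact ZO.hom := inferInstanceAs (QuasiCompact f)
  have : QuasiSeparated ZO.hom := inferInstanceAs (QuasiSeparated f)
  have : LocallyOfFinitePresentation YO.hom := inferInstanceAs (LocallyOfFinitePresentation g)
  let φO : (Over.map (loc R L)).obj ZO' ⟶ YO := Over.homMk φ' hφ'
  obtain ⟨m, hm, φ, hφ⟩ := exists_extend (M := M) L (Z := ZO) (Y := YO) (Z' := ZO') (a := a) h φO
  let t : (Over.map (loc R L)).obj ZO' ⟶ ZO := toS (G := ZO) (X := ZO') (q := a) h (𝟙 ZO')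
  refine ⟨m, hm, φ.left, (opnLift (lies_map_loc L m hm ZO') t).left, Over.w φ, ?_, ?_⟩
  · have h1 := congrArg (fun t => t.left) (opnLift_ι (lies_map_loc L m hm ZO') t)
    have h2 : t.left = a := (toS_left (G := ZO) (X := ZO') (q := a) h (𝟙 ZO')).trans (Category.id_comp a)
    rw [h2] at h1
    exact h1
  · exact congrArg (fun t => t.left) hφ

/-- Spreading out the comparison of `f` with an étale morphism. -/
theorem exists_iso_data {U : Scheme.{u}} [IsAffine U] (f : U ⟶ Spec (CommRingCat.of R)) [Flat f]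
    (he : Etale (pullback.fst f f)) (hs : Surjective (pullback.snd f (loc R L))) :
    ∃ (W : Scheme.{u}) (_ : IsAffine W) (w : W ⟶ Spec (CommRingCat.of R)) (_ : Etale w),
      (∀ y : Spec (CommRingCat.of L), loc R L y ∈ Set.range w) ∧
      ∃ m₁ ∈ M, ∃ (φ : ↑(f ⁻¹ᵁ (bo m₁)) ⟶ W), φ ≫ w = (f ⁻¹ᵁ (bo m₁)).ι ≫ f ∧
      ∃ m₂ ∈ M, ∀ (Z : Scheme.{u}) (a : Z ⟶ ↑(f ⁻¹ᵁ (bo m₁))) (y : Z ⟶ W),
        a ≫ (f ⁻¹ᵁ (bo m₁)).ι ≫ f = y ≫ w → (∀ z, m₂ ∉ (((f ⁻¹ᵁ (bo m₁)).ι ≫ f) (a z)).asIdeal) →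
        ∃! b : Z ⟶ ↑(f ⁻¹ᵁ (bo m₁)), b ≫ φ = y := by
  have hz : Etale (pullback.snd f (loc R L)) := etale_over f he (loc R L) hs
  obtain ⟨W, hW, w, hw, q, sq⟩ := exists_etale_model M L (pullback.snd f (loc R L))
  obtain ⟨m₁, hm₁, φ, a₁, h1, h2, h3⟩ := exists_extend' M L f w (IsPullback.of_hasPullback f (loc R L)) q sq.w.symm
  refine ⟨W, hW, w, hw, fun y => ?_, m₁, hm₁, φ, h1, ?_⟩
  · obtain ⟨x, rfl⟩ := hs.surj y
    refine ⟨q x, ?_⟩
    rw [← Scheme.Hom.comp_apply, ← sq.w]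
    rfl
  let U₁ : Scheme.{u} := ↑(f ⁻¹ᵁ (bo m₁))
  have hU₀ : IsAffineOpen (f ⁻¹ᵁ (bo m₁)) := (IsAffineOpen.Spec_basicOpen (R := CommRingCat.of R) m₁).preimage f
  have hU₁ : IsAffine U₁ := hU₀
  let i : U₁ ⟶ U := (f ⁻¹ᵁ (bo m₁)).ι
  let f₁ : U₁ ⟶ Spec (CommRingCat.of R) := i ≫ f
  let φ₁ : U₁ ⟶ W := φ
  have h1' : φ₁ ≫ w = f₁ := h1
  have s₁ : IsPullback a₁ (pullback.snd f (loc R L)) f₁ (loc R L) := by
    refine ⟨⟨?_⟩, ⟨PullbackCone.IsLimit.mk _ (fun s => pullback.lift (s.fst ≫ i) s.snd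
      (by rw [Category.assoc]; exact s.condition)) (fun s => ?_) (fun s => ?_) (fun s l hl1 hl2 => ?_)⟩⟩
    · change a₁ ≫ i ≫ f = _
      rw [← Category.assoc, show a₁ ≫ i = pullback.fst f (loc R L) from h2, pullback.condition]
    · rw [← cancel_mono i, Category.assoc, show a₁ ≫ i = pullback.fst f (loc R L) from h2, pullback.lift_fst]
    · exact pullback.lift_snd _ _ _
    · apply pullback.hom_ext
      · rw [pullback.lift_fst, ← hl1, Category.assoc, show a₁ ≫ i = pullback.fst f (loc R L) from h2]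
      · rw [pullback.lift_snd, hl2]
  let ψ : pullback f₁ f₁ ⟶ pullback f₁ w := pullback.lift (pullback.fst f₁ f₁) (pullback.snd f₁ f₁ ≫ φ₁)
    (by rw [Category.assoc, h1', pullback.condition])
  have hψ1 : ψ ≫ pullback.fst f₁ w = pullback.fst f₁ f₁ := pullback.lift_fst _ _ _
  have hψ2 : ψ ≫ pullback.snd f₁ w = pullback.snd f₁ f₁ ≫ φ₁ := pullback.lift_snd _ _ _
  have e1 : Etale (pullback.fst f₁ f₁) := etale_fst he i i inferInstance (IsPullback.of_hasPullback f₁ f₁)
  have e2 : Etale (pullback.fst f₁ w) := inferInstance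
  have e3 : Etale ψ := MorphismProperty.of_postcomp (W := @Etale) (W' := @Etale) ψ (pullback.fst f₁ w) e2
    (by rw [hψ1]; exact e1)
  have e4 : IsAffine (pullback f₁ w) := inferInstance
  have e5 : IsAffine (pullback f₁ f₁) := inferInstance
  have e6 : QuasiCompact ψ := inferInstance
  obtain ⟨m₂, hm₂, H⟩ := isIso_spread M L ψ (pullback.fst f₁ w ≫ f₁) (by
    intro Z y l hl
    have hl' : (y ≫ pullback.fst f₁ w) ≫ f₁ = l ≫ loc R L := by rw [Category.assoc]; exact hl
    have hl'' : l ≫ loc R L = (y ≫ pullback.snd f₁ w) ≫ w := by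
      rw [← hl', Category.assoc, Category.assoc, pullback.condition]
    let r := sq.lift l (y ≫ pullback.snd f₁ w) hl''
    have hr1 : r ≫ pullback.snd f (loc R L) = l := sq.lift_fst _ _ _
    have hr2 : r ≫ q = y ≫ pullback.snd f₁ w := sq.lift_snd _ _ _
    have hb : (y ≫ pullback.fst f₁ w) ≫ f₁ = (r ≫ a₁) ≫ f₁ := by
      rw [hl', Category.assoc, s₁.w, ← Category.assoc, hr1]
    refine ⟨pullback.lift (y ≫ pullback.fst f₁ w) (r ≫ a₁) hb, ?_, ?_⟩
    · apply pullback.hom_ext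
      · rw [Category.assoc, hψ1, pullback.lift_fst]
      · rw [Category.assoc, hψ2, ← Category.assoc, pullback.lift_snd, Category.assoc]
        exact (congrArg (r ≫ ·) h3).trans hr2
    · intro x hx
      have hx1 : x ≫ pullback.fst f₁ f₁ = y ≫ pullback.fst f₁ w := by rw [← hψ1, ← Category.assoc, hx]
      have hx2 : (x ≫ pullback.snd f₁ f₁) ≫ φ₁ = y ≫ pullback.snd f₁ w := by
        rw [Category.assoc, ← hψ2, ← Category.assoc, hx]
      have hb' : (x ≫ pullback.snd f₁ f₁) ≫ f₁ = l ≫ loc R L := by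
        rw [← hl', ← hx1, Category.assoc, Category.assoc, pullback.condition]
      have hr' : s₁.lift (x ≫ pullback.snd f₁ f₁) l hb' = r := by
        apply sq.hom_ext
        · rw [s₁.lift_snd, hr1]
        · rw [hr2, ← hx2, ← show a₁ ≫ φ₁ = q from h3, ← Category.assoc, s₁.lift_fst]
      apply pullback.hom_ext
      · rw [pullback.lift_fst, hx1]
      · rw [pullback.lift_snd, ← hr', s₁.lift_fst])
  refine ⟨m₂, hm₂, fun Z a y hay hz' => ?_⟩
  obtain ⟨x, hx, hx'⟩ := H Z (pullback.lift (f := f₁) (g := w) a y hay) (fun z => by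
    have e7 : (pullback.fst f₁ w ≫ f₁) (pullback.lift (f := f₁) (g := w) a y hay z) = f₁ (a z) := by
      rw [← Scheme.Hom.comp_apply, ← Category.assoc, pullback.lift_fst, Scheme.Hom.comp_apply]
    rw [e7]
    exact hz' z)
  refine ⟨x ≫ pullback.snd f₁ f₁, ?_, fun b hb => ?_⟩
  · change (x ≫ pullback.snd f₁ f₁) ≫ φ₁ = y
    rw [Category.assoc, ← hψ2, ← Category.assoc, hx, pullback.lift_snd]
  · have hb' : b ≫ φ₁ = y := hb
    have hab : a ≫ f₁ = b ≫ f₁ := by
      rw [← h1', ← Category.assoc b, hb', h1']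
      exact hay
    have := hx' (pullback.lift a b hab) (by
      apply pullback.hom_ext
      · rw [Category.assoc, hψ1, pullback.lift_fst, pullback.lift_fst]
      · rw [Category.assoc, hψ2, ← Category.assoc, pullback.lift_snd, pullback.lift_snd, hb'])
    rw [← this, pullback.lift_snd]

end

/-- A flat morphism whose image contains the image of the closed point of a local scheme is surjective over it. -/
theorem surjective_of_closedPoint {Z : Scheme.{u}} {A : Type u} [CommRing A] [IsLocalRing A]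
    (z : Z ⟶ Spec (CommRingCat.of A)) [Flat z] (x : Z) (hx : z x = IsLocalRing.closedPoint A) : Surjective z := by
  constructor
  intro y
  have hy : y ⤳ z x := by
    rw [hx]
    exact IsLocalRing.specializes_closedPoint y
  obtain ⟨x', -, hx'⟩ := Flat.generalizingMap z hy
  exact ⟨x', hx'⟩

/-- The local structure of a flat morphism `f : U ⟶ T` of affine schemes such that `U ×_T U ⟶ U` is étale. -/
theorem exists_core {R : Type u} [CommRing R] {U : Scheme.{u}} [IsAffine U] (f : U ⟶ Spec (CommRingCat.of R))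
    [Flat f] (he : Etale (pullback.fst f f)) (u : U) :
    ∃ (D U' W : Scheme.{u}) (_ : IsAffine D) (_ : IsAffine U') (_ : IsAffine W)
      (d : D ⟶ Spec (CommRingCat.of R)) (_ : IsOpenImmersion d) (j : U' ⟶ U) (f' : U' ⟶ D) (w : W ⟶ D)
      (φ : U' ⟶ W), IsPullback j f' f d ∧ f u ∈ Set.range d ∧ Etale w ∧ Surjective w ∧ φ ≫ w = f' ∧ Mono φ ∧
      ∀ (Z : Scheme.{u}) (a : Z ⟶ U') (y : Z ⟶ W), a ≫ f' = y ≫ w → ∃ b : Z ⟶ U', b ≫ φ = y := by
  let t : PrimeSpectrum R := f u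
  let M : Submonoid R := t.asIdeal.primeCompl
  let L : Type u := Localization.AtPrime t.asIdeal
  have hcl : loc R L (IsLocalRing.closedPoint L) = f u := by
    apply PrimeSpectrum.ext
    change (IsLocalRing.maximalIdeal L).comap (algebraMap R L) = t.asIdeal
    exact Localization.AtPrime.comap_maximalIdeal
  have hs : Surjective (pullback.snd f (loc R L)) := by
    obtain ⟨x, -, hx⟩ := Scheme.Pullback.exists_preimage_pullback (f := f) (g := loc R L) u
      (IsLocalRing.closedPoint L) hcl.symm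
    exact surjective_of_closedPoint _ x hx
  obtain ⟨W, hW, w, hw, hrange, m₁, hm₁, φ, hφ, m₂, hm₂, H⟩ := exists_iso_data M L f he hs
  have hopen : IsOpen (Set.range w) := w.isOpenMap.isOpen_range
  have ht : f u ∈ Set.range w := by
    rw [← hcl]
    exact hrange _
  obtain ⟨_, ⟨m₃, rfl⟩, htm₃, hm₃⟩ :=
    PrimeSpectrum.isTopologicalBasis_basic_opens.exists_subset_of_mem_open (a := (f u : PrimeSpectrum R)) ht hopen
  let m : R := m₁ * m₂ * m₃
  let D : (Spec (CommRingCat.of R)).Opens := bo m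
  have hD : ∀ x : Spec (CommRingCat.of R), x ∈ D ↔ m ∉ x.asIdeal := fun x => Iff.rfl
  have hD₁ : ∀ x : Spec (CommRingCat.of R), x ∈ D → x ∈ bo m₁ := fun x hx h =>
    hx (Ideal.mul_mem_right _ _ (Ideal.mul_mem_right _ _ h))
  have hD₂ : ∀ x : Spec (CommRingCat.of R), x ∈ D → m₂ ∉ x.asIdeal := fun x hx h =>
    hx (Ideal.mul_mem_right _ _ (Ideal.mul_mem_left _ _ h))
  have hD₃ : ∀ x : Spec (CommRingCat.of R), x ∈ D → x ∈ Set.range w := fun x hx =>
    hm₃ (fun h => hx (Ideal.mul_mem_left _ _ h))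
  have hDu : f u ∈ D := by
    intro h
    rcases t.isPrime.mem_or_mem h with h | h
    · rcases t.isPrime.mem_or_mem h with h | h
      · exact hm₁ h
      · exact hm₂ h
    · exact htm₃ h
  have hDa : IsAffineOpen D := IsAffineOpen.Spec_basicOpen (R := CommRingCat.of R) m
  let U₁ : Scheme.{u} := ↑(f ⁻¹ᵁ (bo m₁))
  let i : U₁ ⟶ U := (f ⁻¹ᵁ (bo m₁)).ι
  let φ₁ : U₁ ⟶ W := φ
  have hφ₁ : φ₁ ≫ w = i ≫ f := hφ
  let U' : Scheme.{u} := ↑(f ⁻¹ᵁ D)
  let W' : Scheme.{u} := ↑(w ⁻¹ᵁ D)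
  let j : U' ⟶ U := (f ⁻¹ᵁ D).ι
  let f' : U' ⟶ D := f ∣_ D
  let w' : W' ⟶ D := w ∣_ D
  let jw : W' ⟶ W := (w ⁻¹ᵁ D).ι
  have sU : IsPullback f' j D.ι f := isPullback_morphismRestrict f D
  have sW : IsPullback w' jw D.ι w := isPullback_morphismRestrict w D
  have hr : Set.range j ⊆ Set.range i := by
    rintro _ ⟨x, rfl⟩
    rw [Scheme.Opens.range_ι]
    exact hD₁ _ x.2
  let k : U' ⟶ U₁ := IsOpenImmersion.lift i j hr
  have hk : k ≫ i = j := IsOpenImmersion.lift_fac _ _ _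
  have hkm : Mono k := by
    have : Mono (k ≫ i) := by rw [hk]; infer_instance
    exact mono_of_mono k i
  have hk2 : ∀ x : U', m₂ ∉ ((i ≫ f) (k x)).asIdeal := by
    intro x
    rw [← Scheme.Hom.comp_apply, ← Category.assoc, hk]
    exact hD₂ _ x.2
  let φ' : U' ⟶ W' := sW.lift f' (k ≫ φ₁) (by rw [sU.w, Category.assoc, hφ₁, ← Category.assoc, hk])
  have hφ'1 : φ' ≫ w' = f' := sW.lift_fst _ _ _
  have hφ'2 : φ' ≫ jw = k ≫ φ₁ := sW.lift_snd _ _ _
  refine ⟨D, U', W', hDa, hDa.preimage f, hDa.preimage w, D.ι, inferInstance, j, f', w', φ', sU.flip, ?_,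
    inferInstance, ?_, hφ'1, ?_, ?_⟩
  · rw [Scheme.Opens.range_ι]
    exact hDu
  · constructor
    rintro ⟨x, hx⟩
    obtain ⟨v, hv⟩ := hD₃ x hx
    refine ⟨⟨v, ?_⟩, ?_⟩
    · change w v ∈ D
      rw [hv]
      exact hx
    · apply Subtype.ext
      change (w ∣_ D ≫ D.ι) _ = x
      rw [morphismRestrict_ι]
      exact hv
  · refine ⟨fun {Z} a b hab => ?_⟩
    have h1 : (a ≫ k) ≫ φ₁ = (b ≫ k) ≫ φ₁ := by
      rw [Category.assoc, ← hφ'2, ← Category.assoc, hab, Category.assoc, Category.assoc, hφ'2]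
    obtain ⟨c, -, hc⟩ := H Z (a ≫ k) ((a ≫ k) ≫ φ₁) (by
      rw [Category.assoc (a ≫ k) φ₁ w, hφ₁]) (fun z => hk2 (a z))
    rw [← cancel_mono k]
    exact (hc _ rfl).trans (hc _ h1.symm).symm
  · intro Z a y hay
    have h1 : (a ≫ k) ≫ i ≫ f = (y ≫ jw) ≫ w := by
      rw [Category.assoc, ← Category.assoc k, hk, Category.assoc, ← sU.w, ← sW.w, ← Category.assoc, hay,
        Category.assoc]
    obtain ⟨b₀, hb₀, -⟩ := H Z (a ≫ k) (y ≫ jw) h1 (fun z => hk2 (a z))
    have hb₀' : b₀ ≫ φ₁ = y ≫ jw := hb₀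
    have h2 : (y ≫ w') ≫ D.ι = (b₀ ≫ i) ≫ f := by
      rw [Category.assoc, sW.w, ← Category.assoc, ← hb₀', Category.assoc, hφ₁, Category.assoc]
    refine ⟨sU.lift (y ≫ w') (b₀ ≫ i) h2, ?_⟩
    apply sW.hom_ext
    · rw [Category.assoc, hφ'1, sU.lift_fst]
    · rw [Category.assoc, hφ'2, ← hb₀', ← Category.assoc]
      congr 1
      rw [← cancel_mono i, Category.assoc, hk, sU.lift_snd]

end K631.Spread
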