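import Groth.Agent.AlgSp.K635.InfNbhd
import Groth.Agent.AlgSp.K609.QC
import Groth.Agent.AlgSp.K609.Sep
import Groth.Agent.AlgSp.K606.Boot
import Groth.Agent.AlgSp.K596.QC
import Groth.Agent.AlgSp.K631.ThickMor

/-!
# Thickenings of finite presentation of quasi-compact spaces are of finite order

* `exists_powZero`: a surjective closed immersion of finite presentation into an affine scheme has nilpotent ideal;
* `isFinThickMor`: the same for thickenings of quasi-compact algebraic spaces;
* `isQuasiSeparatedSp_of_thick`: quasi-separatedness is insensitive to thickenings.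
-/

set_option autoImplicit false
universe u
open CategoryTheory CategoryTheory.Limits AlgebraicGeometry Opposite

namespace K631.FpThick

open AlgSp

theorem ker_app_le_nilradical {Y Y' : Scheme.{u}} (iY : Y ⟶ Y') [Surjective iY] (U : Y'.Opens)
    (hU : IsAffineOpen U) : RingHom.ker (iY.app U).hom ≤ nilradical Γ(Y', U) := by
  intro a ha
  rw [mem_nilradical, Scheme.isNilpotent_iff_basicOpen_eq_bot_of_isCompact hU.isCompact]
  have h1 : iY ⁻¹ᵁ (Y'.basicOpen a) = ⊥ := by
    rw [Scheme.preimage_basicOpen, show iY.app U a = 0 from ha, Scheme.basicOpen_zero]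
  apply le_bot_iff.mp
  intro y hy
  obtain ⟨x, rfl⟩ := iY.surjective y
  have : x ∈ iY ⁻¹ᵁ (Y'.basicOpen a) := hy
  rw [h1] at this
  exact this.elim

/-- A surjective closed immersion of finite presentation into an affine scheme has nilpotent kernel. -/
theorem exists_powZero {W V : Scheme.{u}} [IsAffine V] (c : W ⟶ V) [IsClosedImmersion c]
    [LocallyOfFinitePresentation c] [Surjective c] : ∃ n, powZero n c := by
  have hW : IsAffine W := isAffine_of_isAffineHom c
  have hs : Function.Surjective c.appTop.hom := (IsClosedImmersion.isAffine_surjective_of_isAffine c).2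
  have hfp : c.appTop.hom.FinitePresentation := HasRingHomProperty.appTop (P := @LocallyOfFinitePresentation) c inferInstance
  have hfg : (RingHom.ker c.appTop.hom).FG := by
    algebraize [c.appTop.hom]
    exact Algebra.FinitePresentation.ker_fG_of_surjective (Algebra.ofId Γ(V, ⊤) Γ(W, ⊤)) hs
  have hnil : RingHom.ker c.appTop.hom ≤ nilradical Γ(V, ⊤) := ker_app_le_nilradical c ⊤ (isAffineOpen_top V)
  obtain ⟨n, hn⟩ := Ideal.FG.isNilpotent_iff_le_nilradical hfg |>.2 hnil
  refine ⟨n, ?_⟩
  change c.ker ^ (n + 1) = ⊥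
  let E := Scheme.IdealSheafData.equivOfIsAffine (X := V)
  apply E.injective
  have h1 : Scheme.IdealSheafData.equivOfIsAffine (X := V) c.ker = RingHom.ker c.appTop.hom := by
    rw [Scheme.ker_of_isAffine]
    exact (Scheme.IdealSheafData.equivOfIsAffine (X := V)).apply_symm_apply _
  have h2 : E (c.ker ^ (n + 1)) = E c.ker ^ (n + 1) := map_pow E _ _
  have h3 : E ⊥ = 0 := map_zero E
  refine h2.trans (Eq.trans ?_ h3.symm)
  rw [h1, pow_succ, hn, zero_mul]

variable {S : Scheme.{u}} {X Y : Sp S}

/-- A thickening of finite presentation of a quasi-compact algebraic space is of finite order. -/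
theorem isFinThickMor (hY : IsAlgSpace Y) (hqc : IsQuasiCompactSp Y) {i : X ⟶ Y} (hi : IsThickMor i)
    (hfp : RepWith @LocallyOfFinitePresentation i) : IsFinThickMor i := by
  obtain ⟨U, p, hU, hp, hps⟩ := K609.QC.exists_affine_chart hqc
  obtain ⟨W, c, fst, sq⟩ := hi.1 p
  have h1 : IsClosedImmersion c.left := (hi.2 _ _ _ sq).1
  have h2 : Surjective c.left := (hi.2 _ _ _ sq).2
  have h3 : LocallyOfFinitePresentation c.left := hfp.2 _ _ _ sq
  obtain ⟨n, hn⟩ := exists_powZero c.left
  refine ⟨n, (K635.Thick.isNThickMor_iff hY i).2 ?_⟩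
  refine K635.InfNbhd.repWith_nthick_of_cover
    ⟨hi.1, fun _ _ g fst snd sq => (hi.2 g fst snd sq).1⟩ fun V b => ?_
  obtain ⟨P, v, w', sqP⟩ := hp.1 b
  obtain ⟨w, rfl⟩ := (yon S).map_surjective w'
  have hv : Etale v.left := hp.2 _ _ _ sqP
  have hvs : Surjective v.left := hps.2 _ _ _ sqP
  refine ⟨PUnit, fun _ => P, fun _ => v, fun _ => inferInstance, fun y => ⟨⟨⟩, hvs.surj y⟩, fun _ => ?_⟩
  have e := K635.Thick.exists_pullback_comp sq w
  rw [sqP.w] at e
  refine ⟨pullback c w, pullback.snd c w, _, e, ?_⟩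
  exact K635.Thick.powZero_of_isPullback (K635.Thick.isPullback_left (IsPullback.of_hasPullback c w)).flip hn

instance thick_isMultiplicative : (thick.{u}).IsMultiplicative := by
  unfold thick
  infer_instance

/-- Quasi-separatedness of algebraic spaces is insensitive to thickenings. -/
theorem isQuasiSeparatedSp_of_thick (hY : IsAlgSpace Y) {i : X ⟶ Y} (hi : IsThickMor i)
    (h : IsQuasiSeparatedSp X) : IsQuasiSeparatedSp Y := by
  have hX := K631.ThickMor.isAlgSpace_of_isThickMor hi hY
  have h1 : IsQuasiCompactMor (Limits.diag X) := (K596.QC.repWith_quasiCompact_iff hX.diag).1 h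
  refine (K596.QC.repWith_quasiCompact_iff hY.diag).2 ?_
  refine (K631.ThickMor.isQuasiCompactMor_iff hY (K606.Boot.isAlgSpace_prod hY hY) hi
    (j := prod.map i i) (K609.Sep.repWith_prod_map thick hi hi) ?_).1 h1
  apply Limits.prod.hom_ext <;> simp

end K631.FpThick
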