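import Groth.Agent.S0537
import Groth.Agent.S0539
import Groth.Agent.S2135
import Groth.Agent.Proet.WEtale2
import Groth.Agent.Proet.LazardWEtale
import Groth.Agent.UnramA.IndEtLift
import Groth.Agent.CalgC.GeomUnibranchIff

/-! Geometric unibranchness descends along flat local homomorphisms. -/

set_option autoImplicit false
universe u

namespace K631.GeomUni

open IsLocalRing

theorem isPrime_nilradical_of_injective {A B : Type*} [CommRing A] [CommRing B] (φ : A →+* B)
    (hφ : Function.Injective φ) (h : (nilradical B).IsPrime) : (nilradical A).IsPrime := by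
  have e : nilradical A = (nilradical B).comap φ := by
    ext x
    rw [Ideal.mem_comap, mem_nilradical, mem_nilradical]
    constructor
    · intro hx; exact hx.map φ
    · rintro ⟨n, hn⟩
      exact ⟨n, hφ (by rw [map_pow, hn, map_zero])⟩
  rw [e]
  exact Ideal.comap_isPrime φ _

/-- Geometric unibranchness descends along flat local homomorphisms. -/
theorem isGeomUnibranch_of_flat {A B : Type u} [CommRing A] [IsLocalRing A] [CommRing B] [IsLocalRing B]
    [Algebra A B] [IsLocalHom (algebraMap A B)] [Module.Flat A B] (h : CAlg2.IsGeomUnibranch B) :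
    CAlg2.IsGeomUnibranch A := by
  obtain ⟨R, _, _, _, _, hR⟩ := Groth.Agent.S0537.result A
  obtain ⟨T, _, _, _, _, hT⟩ := Groth.Agent.S0537.result B
  rw [Groth.Agent.S2135.result (Ash := R), Groth.Agent.CalgC.GeomUnibranchIff.hasUniqueMinimalPrime_iff]
  rw [Groth.Agent.S2135.result (Ash := T), Groth.Agent.CalgC.GeomUnibranchIff.hasUniqueMinimalPrime_iff] at h
  have := hT.henselian
  have hRs := hR.isSepClosure
  have hTs := hT.isSepClosure
  let f : A →+* T := (algebraMap B T).comp (algebraMap A B)
  have hf : IsLocalHom f := RingHom.isLocalHom_comp _ _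
  -- the map of residue fields
  have hτ : ∃ τ : ResidueField R →+* ResidueField T,
      τ.comp (ResidueField.map (algebraMap A R)) = ResidueField.map f := by
    letI : Algebra (ResidueField A) (ResidueField T) := (ResidueField.map f).toAlgebra
    have h1 : Algebra.IsSeparable (ResidueField A) (ResidueField R) := hRs.separable
    have h2 : IsSepClosed (ResidueField T) := hTs.sep_closed
    let τ : ResidueField R →ₐ[ResidueField A] ResidueField T := IsSepClosed.lift
    exact ⟨τ.toRingHom, τ.comp_algebraMap⟩
  obtain ⟨τ, hτ⟩ := hτ
  obtain ⟨ψ, ⟨hψ, hψ'⟩, -⟩ := hR.universal T f τ hτ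
  have hl : IsLocalHom ψ := by
    constructor
    intro x hx
    by_contra hx'
    have h1 : residue R x = 0 := by rwa [residue_eq_zero_iff, mem_maximalIdeal]
    have h2 := hψ' x
    rw [h1, map_zero, residue_eq_zero_iff, mem_maximalIdeal] at h2
    exact h2 hx
  refine isPrime_nilradical_of_injective ψ ?_ h
  letI := f.toAlgebra
  letI := ψ.toAlgebra
  have : IsScalarTower A B T := IsScalarTower.of_algebraMap_eq fun x => rfl
  have : IsScalarTower A R T := IsScalarTower.of_algebraMap_eq fun x => (congrArg (fun g => g x) hψ).symm
  have : Module.FaithfullyFlat B T := Groth.Agent.S0539.result B T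
  have : Module.Flat A T := Module.Flat.trans A B T
  have : Algebra.WeaklyEtale A R := Groth.Agent.Proet.LazardWEtale.weaklyEtale_of_isIndEt
      (Groth.Agent.UnramA.IndEtLift.isIndEt_of_isStrictHenselization A R)
  have : Module.Flat R T := Groth.Agent.Proet.WEtale2.flat_of_weaklyEtale_of_flat A R T
  have : IsLocalHom (algebraMap R T) := hl
  have : Module.FaithfullyFlat R T := Module.FaithfullyFlat.of_flat_of_isLocalHom
  exact FaithfulSMul.algebraMap_injective R T

end K631.GeomUni
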