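import Groth.Agent.AlgSp.K631.ThickOpen
import Groth.Agent.AlgSp.K610.ZarGlue

/-!
# Representability along a homeomorphism: reduction to affine sources

`exists_rep_of_homeo`: `f : X ⟶ Y` a morphism of algebraic spaces which is a homeomorphism on points, `X` a scheme. If for
every affine open `W` of `X` the open subspace of `Y` with the same points is a scheme, then `Y` is a scheme.
-/

set_option autoImplicit false
universe u
open CategoryTheory CategoryTheory.Limits AlgebraicGeometry Opposite

namespace K631.HomeoSch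

open AlgSp K631.Base K631.Thick K631.ThickMor K631.ThickOpen K610.Factor K610.Sub

variable {S : Scheme.{u}} {F G H P Z X X' Y Y' U U' : Sp S}

/-- An open subspace `U` of `X` and an open subspace `U'` of `X'` with `|U'| = f(|U|)` form a pullback square if `f` is
injective on points. -/
theorem isPullback_of_range {i : X ⟶ X'} (hi : Function.Injective (Points.map i)) {u : U ⟶ X}
    (hu : RepWith @IsOpenImmersion u) {u' : U' ⟶ X'} (hu' : RepWith @IsOpenImmersion u')
    (h : Set.range (Points.map u') = Points.map i '' Set.range (Points.map u)) :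
    ∃ k : U ⟶ U', IsPullback u k i u' := by
  have hm := mono_of_isOpenImmersion hu
  have hm' := mono_of_isOpenImmersion hu'
  obtain ⟨k, hk⟩ := (factors_open_iff hu' (u ≫ i)).2 (by
    rw [h]
    rintro _ ⟨x, rfl⟩
    rw [Points.map_comp]
    exact ⟨_, ⟨x, rfl⟩, rfl⟩)
  have key : ∀ s : PullbackCone i u', ∃ l : s.pt ⟶ U, l ≫ u = s.fst := fun s => by
    rw [factors_open_iff hu]
    rintro _ ⟨z, rfl⟩
    have h1 : Points.map i (Points.map s.fst z) ∈ Points.map i '' Set.range (Points.map u) := by
      rw [← h, ← Points.map_comp, s.condition, Points.map_comp]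
      exact ⟨_, rfl⟩
    obtain ⟨y, hy, e⟩ := h1
    rwa [← hi e]
  choose l hl using key
  refine ⟨k, ⟨⟨hk.symm⟩, ⟨PullbackCone.IsLimit.mk _ (fun s => l s) (fun s => hl s) (fun s => ?_)
    (fun s m h1 h2 => ?_)⟩⟩⟩
  · rw [← cancel_mono u', Category.assoc, hk, ← Category.assoc, hl, s.condition]
  · rw [← cancel_mono u, h1, hl]

theorem repWith_open_of_iso {T : Over S} (e : (yon S).obj T ≅ X) {W : Over S} (a : W ⟶ T)
    (ha : IsOpenImmersion a.left) : RepWith @IsOpenImmersion ((yon S).map a ≫ e.hom) :=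
  MorphismProperty.RespectsIso.postcomp _ e.hom _ ((repWith_yon_map_iff _ a).2 ha)

/-- Reduction of representability of the target of a homeomorphism to affine sources. -/
theorem exists_rep_of_homeo {X Y : Space S} (f : X ⟶ Y) (hf : IsHomeomorph (Points.map f.hom)) (T : Over S)
    (e : (yon S).obj T ≅ X.obj)
    (H : ∀ (V : Space S) (j : V ⟶ Y) (W : Over S) (g : (yon S).obj W ⟶ V.obj) (a : W ⟶ T), IsAffine W.left →
      IsOpenImmersion a.left → RepWith @IsOpenImmersion j.hom →
      IsPullback ((yon S).map a ≫ e.hom) g f.hom j.hom → ∃ T' : Over S, Nonempty ((yon S).obj T' ≅ V.obj)) :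
    ∃ T' : Over S, Nonempty ((yon S).obj T' ≅ Y.obj) := by
  let 𝒰 := T.left.affineCover
  let W : 𝒰.I₀ → Over S := fun i => Over.mk (𝒰.f i ≫ T.hom)
  let a : ∀ i, W i ⟶ T := fun i => Over.homMk (𝒰.f i) rfl
  have ha : ∀ i, IsOpenImmersion (a i).left := fun i => inferInstanceAs (IsOpenImmersion (𝒰.f i))
  have hW : ∀ i, IsAffine (W i).left := fun i => inferInstanceAs (IsAffine (𝒰.X i))
  have hu : ∀ i, RepWith @IsOpenImmersion ((yon S).map (a i) ≫ e.hom) := fun i => repWith_open_of_iso e (a i) (ha i)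
  have h1 : ∀ i, ∃ (V : Space S) (j : V ⟶ Y), RepWith @IsOpenImmersion j.hom ∧
      Set.range (Points.map j.hom) = Points.map f.hom '' Set.range (Points.map ((yon S).map (a i) ≫ e.hom)) := fun i =>
    K610.Sub.exists_open_subspace Y _ (hf.isOpenMap _ (K631.ThickOpen.isOpen_range (hu i)))
  choose V j hj hr using h1
  have h2 : ∀ i, ∃ k : (yon S).obj (W i) ⟶ (V i).obj,
      IsPullback ((yon S).map (a i) ≫ e.hom) k f.hom (j i).hom := fun i =>
    isPullback_of_range hf.injective (hu i) (hj i) (hr i)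
  choose k hk using h2
  have h3 := fun i => H (V i) (j i) (W i) (k i) (a i) (hW i) (ha i) (hj i) (hk i)
  choose T' ε using h3
  have hε : ∀ i, RepWith @IsOpenImmersion ((ε i).some.hom ≫ (j i).hom) := fun i =>
    MorphismProperty.RespectsIso.precomp _ _ _ (hj i)
  obtain ⟨H', e', -⟩ := K610.ZarGlue.exists_iso_of_openCover T' (fun i => (ε i).some.hom ≫ (j i).hom) hε (fun y => by
    obtain ⟨x, rfl⟩ := hf.surjective y
    obtain ⟨z, rfl⟩ : ∃ z, Points.map e.hom z = x := ⟨Points.map e.inv x, by
      rw [← Points.map_comp, e.inv_hom_id, Points.map_id]⟩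
    obtain ⟨t, rfl⟩ := exists_ofScheme z
    obtain ⟨i, w, hw⟩ : ∃ (i : 𝒰.I₀) (w : (W i).left), (a i).left w = t :=
      ⟨𝒰.idx t, (𝒰.covers t).choose, (𝒰.covers t).choose_spec⟩
    refine ⟨i, ?_⟩
    have h4 : Points.map f.hom (Points.map e.hom (Points.ofScheme T t)) ∈ Set.range (Points.map (j i).hom) := by
      rw [hr i]
      refine ⟨_, ⟨Points.ofScheme (W i) w, rfl⟩, ?_⟩
      rw [Points.map_comp]
      congr 2
      have := ofPt_map_comp (a i) (𝟙 _) w
      rw [Category.comp_id, hw] at this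
      exact this
    obtain ⟨v, hv⟩ := h4
    refine ⟨Points.map (ε i).some.inv v, ?_⟩
    rw [Points.map_comp, ← Points.map_comp (ε i).some.inv, Iso.inv_hom_id, Points.map_id, hv])
  exact ⟨H', ⟨e'⟩⟩

/-- A thickening of a scheme is a scheme as soon as this is true for affine schemes. -/
theorem exists_rep_of_thick {X Y : Space S} (f : X ⟶ Y) (hf : IsThickMor f.hom)
    (hX : ∃ T : Over S, Nonempty ((yon S).obj T ≅ X.obj))
    (H : ∀ (V : Space S) (W : Over S) (g : (yon S).obj W ⟶ V.obj), IsAffine W.left → IsThickMor g →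
      ∃ T' : Over S, Nonempty ((yon S).obj T' ≅ V.obj)) :
    ∃ T' : Over S, Nonempty ((yon S).obj T' ≅ Y.obj) := by
  obtain ⟨T, ⟨e⟩⟩ := hX
  exact exists_rep_of_homeo f (isHomeomorph_map_of_isThickMor hf) T e fun V j W g a hW ha hj sq =>
    H V W g hW (isThickMor_snd sq hf)

end K631.HomeoSch
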