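import Groth.Agent.AlgSp.K631.HomeoSch
import Groth.Agent.AlgSp.K617.FinLoc

/-!
# Integral morphisms bijective on points and representability (S10046), from Chevalley's theorem (S10044)
-/

set_option autoImplicit false
universe u
open CategoryTheory CategoryTheory.Limits AlgebraicGeometry Opposite

namespace K631.IntSch

open AlgSp K631.Base K631.Thick

variable {S : Scheme.{u}} {X Y : Sp S} {f : X ⟶ Y}

/-- Chevalley's theorem for algebraic spaces over `S` (S10044). -/
def Chev (S : Scheme.{u}) : Prop :=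
  ∀ {X Y : AlgSp.Space S} (f : X ⟶ Y) (_ : AlgSp.IsSurjectiveMor f.hom) (_ : AlgSp.IsUnivClosedMor f.hom)
    (_ : ∃ (T : Over S), IsAffine T.left ∧ Nonempty ((AlgSp.yon S).obj T ≅ X.obj)),
    ∃ (T : Over S), IsAffine T.left ∧ Nonempty ((AlgSp.yon S).obj T ≅ Y.obj)

theorem isClosedMap_of_repWith (h : RepWith @IsIntegralHom f) : IsClosedMap (Points.map f) :=
  isClosedMap_map h.1 fun _ _ g fst snd sq => by
    have : IsIntegralHom snd.left := h.2 g fst snd sq
    exact snd.left.isClosedMap

theorem isUnivClosedMor_of_repWith (h : RepWith @IsIntegralHom f) : IsUnivClosedMor f :=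
  fun _ _ _ _ _ _ sq => isClosedMap_of_repWith (MorphismProperty.of_isPullback (P := RepWith @IsIntegralHom) sq h)

theorem isHomeomorph_of_repWith (h : RepWith @IsIntegralHom f) (hb : Function.Bijective (Points.map f)) :
    IsHomeomorph (Points.map f) :=
  isHomeomorph_iff_continuous_isClosedMap_bijective.2 ⟨Points.continuous_map f, isClosedMap_of_repWith h, hb⟩

/-- S10046, modulo Chevalley's theorem. -/
theorem isRepresentable_iff (hC : Chev S) {X Y : Space S} (f : X ⟶ Y) (hint : IsIntegralMor f.hom)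
    (hb : Function.Bijective (Points.map f.hom)) : X.obj.obj.IsRepresentable ↔ Y.obj.obj.IsRepresentable := by
  have h : RepWith @IsIntegralHom f.hom := K617.FinLoc.isIntegralMor_iff.1 hint
  rw [K610.ZarGlue.isRepresentable_iff, K610.ZarGlue.isRepresentable_iff]
  constructor
  · rintro ⟨T, ⟨e⟩⟩
    refine K631.HomeoSch.exists_rep_of_homeo f (isHomeomorph_of_repWith h hb) T e fun V j W g a hW ha hj sq => ?_
    have h1 : RepWith @IsIntegralHom g := MorphismProperty.of_isPullback (P := RepWith @IsIntegralHom) sq h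
    let WS : Space S := ⟨(yon S).obj W, IsAlgSpace.yon_obj W⟩
    let gS : WS ⟶ V := ⟨g⟩
    have h2 : IsSurjectiveMor gS.hom := by
      intro v
      obtain ⟨x, hx⟩ := hb.2 (Points.map j.hom v)
      obtain ⟨w, -, hw⟩ := exists_of_isPullback sq x v hx
      exact ⟨w, hw⟩
    obtain ⟨T', -, hT'⟩ := hC gS h2 (isUnivClosedMor_of_repWith h1) ⟨W, hW, ⟨Iso.refl _⟩⟩
    exact ⟨T', hT'⟩
  · rintro ⟨T, ⟨e⟩⟩
    obtain ⟨W, c, fst, sq⟩ := h.1 e.hom
    have h2 : IsIso fst := MorphismProperty.of_isPullback (P := MorphismProperty.isomorphisms (Sp S)) sq.flip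
      (inferInstanceAs (IsIso e.hom))
    exact ⟨W, ⟨asIso fst⟩⟩

end K631.IntSch
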