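import Groth.Agent.AlgSp.K631.HomeoSch
import Groth.Agent.AlgSp.K631.BaseZ
import Groth.Agent.AlgSp.K631.FpThick
import Groth.Agent.AlgSp.K600.LimRep
import Groth.Agent.AlgSp.K597.Affine
import Groth.Agent.AlgSp.K597.LocP
import Groth.Agent.AlgSp.K632.FinThickSch
import Groth.Agent.AlgSp.K631.ClLim

/-!
# Thickenings of affine schemes: from the finite order case to the general case
-/

set_option autoImplicit false
universe u
open CategoryTheory CategoryTheory.Limits AlgebraicGeometry Opposite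

namespace K631.NilAff

open AlgSp

/-- Finite order thickenings of affine schemes are affine. -/
theorem finCase {S : Scheme.{u}} {X Y : Sp S} (i : X ⟶ Y) (hY : IsAlgSpace Y) (hi : IsFinThickMor i) {W : Over S}
    (hW : IsAffine W.left) (e : (yon S).obj W ≅ X) :
    ∃ T : Over S, IsAffine T.left ∧ Nonempty ((yon S).obj T ≅ Y) := by
  have h : IsFinThickMor (e.hom ≫ i) := by
    obtain ⟨n, hn⟩ := hi
    refine ⟨n, ?_⟩
    rw [K635.Thick.isNThickMor_iff hY] at hn ⊢
    exact MorphismProperty.RespectsIso.precomp _ e.hom _ hn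
  exact K632.FinThickSch.exists_affine (X' := ⟨Y, hY⟩) hW h

variable {S : Scheme.{u}}

theorem isQuasiSeparatedSp_of_affine {W : Over S} (hW : IsAffine W.left) : IsQuasiSeparatedSp ((yon S).obj W) := by
  refine (repWith_diag_yon_iff _ W).2 ?_
  have h1 : IsSeparated (W.hom ≫ terminal.from S) := by
    have : W.hom ≫ terminal.from S = terminal.from W.left := Subsingleton.elim _ _
    rw [this]
    infer_instance
  have h2 : IsSeparated W.hom := IsSeparated.of_comp W.hom (terminal.from S)
  have h3 : IsClosedImmersion (pullback.diagonal W.hom) := inferInstance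
  exact (inferInstance : QuasiCompact (pullback.diagonal W.hom))

/-- If `i ≫ t` is a thickening and `t` is a closed immersion then `t` is a thickening. -/
theorem isThickMor_of_comp {X Z Y : Sp S} (i : X ⟶ Z) (t : Z ⟶ Y) (ht : RepWith @IsClosedImmersion t)
    (h : IsThickMor (i ≫ t)) : IsThickMor t := by
  refine ⟨ht.1, fun A B g fst snd sq => ⟨ht.2 _ _ _ sq, ?_⟩⟩
  obtain ⟨C, c, fst', sq'⟩ := h.1 g
  have h1 : Surjective c.left := (h.2 _ _ _ sq').2
  obtain ⟨m, hm⟩ := (yon S).map_surjective (sq.lift (fst' ≫ i) ((yon S).map c) (by rw [Category.assoc, sq'.w]))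
  have hm2 : m ≫ snd = c := (yon S).map_injective (by
    rw [Functor.map_comp, hm]; exact sq.lift_snd _ _ _)
  have h2 : Surjective (m.left ≫ snd.left) := by rw [← Over.comp_left, hm2]; exact h1
  exact Surjective.of_comp m.left snd.left

/-- The affine case over a quasi-separated base. -/
theorem exists_affine_qs [QuasiSeparatedSpace S] {X Y : Space S} (i : X ⟶ Y)
    (hi : IsThickMor i.hom) {W : Over S} (hW : IsAffine W.left) (e : (yon S).obj W ≅ X.obj) :
    ∃ T : Over S, IsAffine T.left ∧ Nonempty ((yon S).obj T ≅ Y.obj) := by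
  have hXqc : IsQuasiCompactSp X.obj := by
    refine (K609.QC.isQuasiCompactSp_iff X.property).2 ?_
    have : CompactSpace (Points ((yon S).obj W)) :=
      K609.QC.compactSpace_points (K596.QC.isQuasiCompactSp_yon _)
    have hs : Function.Surjective (Points.map e.hom) := fun x =>
      ⟨Points.map e.inv x, by rw [← Points.map_comp, e.inv_hom_id, Points.map_id]⟩
    exact hs.compactSpace (Points.continuous_map e.hom)
  have hXqs : IsQuasiSeparatedSp X.obj := K600.LimRep.isQuasiSeparatedSp_of_iso e (isQuasiSeparatedSp_of_affine hW)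
  have hYqc : IsQuasiCompactSp Y.obj := (K631.ThickMor.isQuasiCompactSp_iff_of_thick hi Y.property).1 hXqc
  have hYqs : IsQuasiSeparatedSp Y.obj := K631.FpThick.isQuasiSeparatedSp_of_thick Y.property hi hXqs
  obtain ⟨I, _, _, _, F, hF, ε, ⟨hc⟩, hFT, hε⟩ :=
    K631.ClLim.exists_lim Y hYqc hYqs (K631.Thick.repWith_isClosedImmersion hi)
  let D := K603.ClChain.diag F hF
  let t : ∀ j, D.obj j ⟶ Y.obj := fun j => (F j.unop).ι
  have ht : ∀ j, RepWith @IsClosedImmersion (t j) := fun j => (F j.unop).repWith_ι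
  have hD : ∀ j, IsAlgSpace (D.obj j) := fun j => (F j.unop).isAlgSpace_sheaf Y.property
  let c := K603.ClChain.cone F hF
  have hε : ∀ j, ε.inv ≫ c.π.app j ≫ t j = i.hom := fun j => hε j.unop
  have htt : ∀ j, IsThickMor (t j) := fun j => by
    refine isThickMor_of_comp (ε.inv ≫ c.π.app j) (t j) (ht j) ?_
    rw [Category.assoc, hε j]
    exact hi
  have hqc : ∀ j, IsQuasiCompactSp (D.obj j) := fun j =>
    (K631.ThickMor.isQuasiCompactSp_iff_of_thick (htt j) Y.property).2 hYqc
  have hqs : ∀ j, IsQuasiSeparatedSp (D.obj j) := fun j => by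
    have h1 : IsThickMor (ε.inv ≫ c.π.app j) := by
      have hm : Mono (t j) := K631.Thick.mono_of_isThickMor (htt j)
      refine MorphismProperty.of_isPullback (P := RepWith thick) (f' := (𝟙 X.obj : X.obj ⟶ X.obj)) (f := t j)
        (g := i.hom) ?_ hi
      refine ⟨⟨by simp [hε j]⟩, ⟨PullbackCone.IsLimit.mk _ (fun s => s.fst) (fun s => by simp) (fun s => ?_)
        (fun s m h1 h2 => by simpa using h1)⟩⟩
      rw [← cancel_mono (t j), Category.assoc, Category.assoc, hε j, s.condition]
    exact K631.FpThick.isQuasiSeparatedSp_of_thick (hD j) h1 hXqs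
  obtain ⟨j, T', hT', ⟨e'⟩⟩ := K600.LimRep.exists_affine_of_limit hD
    (fun j k φ => K597.Affine.isAffineMor_iff.2 (K631.ClLim.repWith_mono (fun _ _ g h => by
        have : IsClosedImmersion g := h
        exact (inferInstance : IsAffineHom g)) (K603.ClChain.repWith_trans (hF (leOfHom φ.unop))))) hc hqc hqs hW
    (e ≪≫ ε.symm)
  have hfp : RepWith @LocallyOfFinitePresentation (t j) :=
    K631.ClLim.repWith_mono (fun _ _ _ h => h.2) (K647.FamOps.repWith_ι_lfp (hFT j.unop))
  exact finCase (t j) Y.property (K631.FpThick.isFinThickMor Y.property hYqc (htt j) hfp) hT' e'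

/-- The affine case over an arbitrary base. -/
theorem exists_affine {X Y : Space S} (i : X ⟶ Y)
    (hi : IsThickMor i.hom) {W : Over S} (hW : IsAffine W.left) (e : (yon S).obj W ≅ X.obj) :
    ∃ T : Over S, IsAffine T.left ∧ Nonempty ((yon S).obj T ≅ Y.obj) := by
  let g : S ⟶ ⊤_ Scheme.{u} := terminal.from S
  have : QuasiSeparatedSpace (⊤_ Scheme.{u} : Scheme.{u}) := inferInstance
  let X' : Space (⊤_ Scheme.{u}) := ⟨(K595.ChBase.L g).obj X.obj, K595.ChBase.isAlgSpace_L X.property⟩
  let Y' : Space (⊤_ Scheme.{u}) := ⟨(K595.ChBase.L g).obj Y.obj, K595.ChBase.isAlgSpace_L Y.property⟩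
  let i' : X' ⟶ Y' := ⟨(K595.ChBase.L g).map i.hom⟩
  have hi' : IsThickMor i'.hom := (K631.BaseZ.isThickMor_L_iff i.hom).2 hi
  obtain ⟨T', hT', ⟨e'⟩⟩ := exists_affine_qs i' hi' (W := (Over.map g).obj W) hW
    (K595.ChBase.yonIso W ≪≫ (K595.ChBase.L g).mapIso e)
  obtain ⟨T, ⟨ε⟩, h⟩ := K631.BaseZ.exists_rep_of_L e'
  exact ⟨T, IsAffine.of_isIso ε.hom, h⟩

/-- A thickening of a scheme is a scheme. -/
theorem exists_rep {X Y : Space S} (i : X ⟶ Y)
    (hi : IsThickMor i.hom) (hX : ∃ T : Over S, Nonempty ((yon S).obj T ≅ X.obj)) :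
    ∃ T : Over S, Nonempty ((yon S).obj T ≅ Y.obj) :=
  K631.HomeoSch.exists_rep_of_thick i hi hX fun V W g hW hg => by
    let WS : Space S := ⟨(yon S).obj W, IsAlgSpace.yon_obj W⟩
    let gS : WS ⟶ V := ⟨g⟩
    obtain ⟨T, -, h⟩ := exists_affine gS hg hW (Iso.refl _)
    exact ⟨T, h⟩

end K631.NilAff
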