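import Groth.Agent.Sga7.H301.LimHom
import Groth.Agent.Proet.EtDesc
import Mathlib.AlgebraicGeometry.Morphisms.LocalFlatDescent
import Mathlib.AlgebraicGeometry.Morphisms.FlatMono

/-!
# Flat morphisms `U ⟶ T` with `U ×_T U ⟶ U` étale: spreading out around a point

`exists_mem_forall`: a closed subset of a quasi-compact scheme over `Spec R` without points over the
localization at `M` has no points over some `D(m)`, `m ∈ M`.
`isIso_spread`: an étale quasi-compact morphism of schemes over `Spec R` which is an isomorphism over the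
localization is one over some `D(m)`.
-/

set_option autoImplicit false
universe u
open CategoryTheory CategoryTheory.Limits AlgebraicGeometry Opposite

namespace K631.Spread

section Avoid

variable {R : Type u} [CommRing R] (M : Submonoid R)

theorem exists_mem_ring {B : Type u} [CommRing B] (φ : R →+* B) (I : Ideal B)
    (h : ∀ q : Ideal B, q.IsPrime → I ≤ q → ∃ m ∈ M, φ m ∈ q) : ∃ m ∈ M, φ m ∈ I := by
  by_contra hne
  push Not at hne
  have hdisj : Disjoint (I : Set B) (M.map φ : Submonoid B) := by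
    rw [Set.disjoint_left]
    rintro _ hb ⟨m, hm, rfl⟩
    exact hne m hm hb
  obtain ⟨q, hq, hIq, hd⟩ := Ideal.exists_le_prime_disjoint I (M.map φ) hdisj
  obtain ⟨m, hm, hm'⟩ := h q hq hIq
  exact Set.disjoint_left.mp hd hm' ⟨m, hm, rfl⟩

/-- A closed subset of a quasi-compact scheme over `Spec R`. -/
theorem exists_mem_forall {E : Scheme.{u}} [CompactSpace E] (g : E ⟶ Spec (CommRingCat.of R)) {K : Set E}
    (hK : IsClosed K) (h : ∀ k ∈ K, ∃ m ∈ M, m ∈ (g k).asIdeal) :
    ∃ m ∈ M, ∀ k ∈ K, m ∈ (g k).asIdeal := by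
  have key : ∀ s : Set E, IsCompact s → ∃ m ∈ M, ∀ k ∈ s, k ∈ K → m ∈ (g k).asIdeal := by
    intro s hs
    refine hs.induction_on (p := fun s => ∃ m ∈ M, ∀ k ∈ s, k ∈ K → m ∈ (g k).asIdeal)
      ⟨1, M.one_mem, fun k hk => hk.elim⟩ ?_ ?_ ?_
    · rintro s t hst ⟨m, hm, h⟩
      exact ⟨m, hm, fun k hk => h k (hst hk)⟩
    · rintro s t ⟨m, hm, h⟩ ⟨m', hm', h'⟩
      refine ⟨m * m', M.mul_mem hm hm', fun k hk hkK => ?_⟩
      rcases hk with hk | hk
      · exact Ideal.mul_mem_right _ _ (h k hk hkK)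
      · exact Ideal.mul_mem_left _ _ (h' k hk hkK)
    · intro x hx
      obtain ⟨V, hV, hxV, -⟩ := exists_isAffineOpen_mem_and_subset (x := x) (U := ⊤) (by trivial)
      obtain ⟨B, i, hi, hxi⟩ : ∃ (B : CommRingCat.{u}) (i : Spec B ⟶ E), IsOpenImmersion i ∧ x ∈ Set.range i :=
        ⟨_, hV.fromSpec, inferInstance, by rw [hV.range_fromSpec]; exact hxV⟩
      refine ⟨Set.range i, mem_nhdsWithin_of_mem_nhds (i.isOpenEmbedding.isOpen_range.mem_nhds hxi), ?_⟩
      obtain ⟨φ, hφ⟩ := Spec.map_surjective (i ≫ g)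
      obtain ⟨I, hI⟩ := (PrimeSpectrum.isClosed_iff_zeroLocus_ideal _).mp
        (hK.preimage (show Continuous i from i.continuous))
      obtain ⟨m, hm, hmI⟩ := exists_mem_ring M φ.hom I (fun q hq hIq => by
        have hq' : (⟨q, hq⟩ : PrimeSpectrum B) ∈ i ⁻¹' K := by
          rw [hI]
          exact hIq
        obtain ⟨m, hm, hm'⟩ := h _ hq'
        refine ⟨m, hm, ?_⟩
        have h1 : g (i ⟨q, hq⟩) = Spec.map φ (⟨q, hq⟩ : PrimeSpectrum B) := by
          rw [hφ]
          rfl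
        rw [h1] at hm'
        exact hm')
      refine ⟨m, hm, ?_⟩
      rintro _ ⟨y, rfl⟩ hy
      have hy' : (y : PrimeSpectrum B) ∈ PrimeSpectrum.zeroLocus (I : Set B) := by
        rw [← hI]
        exact hy
      have h1 : g (i y) = Spec.map φ y := by
        rw [hφ]
        rfl
      rw [h1]
      exact hy' hmI
  obtain ⟨m, hm, h'⟩ := key Set.univ isCompact_univ
  exact ⟨m, hm, fun k hk => h' k trivial hk⟩

end Avoid

section Iso

open Groth.Agent.Sga7.H301.PGrp

variable {R : Type u} [CommRing R] (M : Submonoid R) (L : Type u) [CommRing L] [Algebra R L]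
  [IsLocalization M L]

/-- Field points of `Spec R` over the localization. -/
theorem exists_lift_loc {κ : Type u} [Field κ] (y : Spec (CommRingCat.of κ) ⟶ Spec (CommRingCat.of R))
    (s : Spec (CommRingCat.of κ)) (h : ∀ m ∈ M, m ∉ (y s).asIdeal) :
    ∃ l : Spec (CommRingCat.of κ) ⟶ Spec (CommRingCat.of L), l ≫ loc R L = y := by
  obtain ⟨φ, rfl⟩ := Spec.map_surjective y
  have hu : ∀ m : M, IsUnit (φ.hom m) := by
    intro m
    rw [isUnit_iff_ne_zero]
    intro h0
    refine h m m.2 ?_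
    change φ.hom m ∈ (s : PrimeSpectrum κ).asIdeal
    rw [h0]
    exact Ideal.zero_mem _
  refine ⟨Spec.map (CommRingCat.ofHom (IsLocalization.lift hu)), ?_⟩
  rw [loc, ← Spec.map_comp]
  congr 1
  ext r
  change IsLocalization.lift hu (algebraMap R L r) = φ.hom r
  exact IsLocalization.lift_eq hu r

/-- An étale quasi-compact morphism over `Spec R` which is an isomorphism over the localization is an isomorphism over
some `D(m)`. -/
theorem isIso_spread {E G : Scheme.{u}} [CompactSpace G] (ψ : E ⟶ G) [Etale ψ] [QuasiCompact ψ]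
    (g : G ⟶ Spec (CommRingCat.of R))
    (H : ∀ (Z : Scheme.{u}) (y : Z ⟶ G) (l : Z ⟶ Spec (CommRingCat.of L)), y ≫ g = l ≫ loc R L →
      ∃! x : Z ⟶ E, x ≫ ψ = y) :
    ∃ m ∈ M, ∀ (Z : Scheme.{u}) (y : Z ⟶ G), (∀ z, m ∉ (g (y z)).asIdeal) → ∃! x : Z ⟶ E, x ≫ ψ = y := by
  -- surjectivity
  have hopen : IsOpen (Set.range ψ) := ψ.isOpenMap.isOpen_range
  obtain ⟨m₁, hm₁, h₁⟩ := exists_mem_forall M g (K := (Set.range ψ)ᶜ) hopen.isClosed_compl (by
    intro k hk
    by_contra hne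
    push Not at hne
    apply hk
    let κ := G.residueField k
    let y : Spec (CommRingCat.of κ) ⟶ G := G.fromSpecResidueField k
    have hs : ∀ s, y s = k := fun s => Scheme.fromSpecResidueField_apply _ _
    let s : ↥(Spec (CommRingCat.of κ)) := IsLocalRing.closedPoint κ
    obtain ⟨l, hl⟩ := exists_lift_loc M L (y ≫ g) s (by
      intro m hm
      rw [Scheme.Hom.comp_apply, hs]
      exact hne m hm)
    obtain ⟨x, hx, -⟩ := H _ y l hl.symm
    refine ⟨x s, ?_⟩
    rw [← Scheme.Hom.comp_apply, hx, hs])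
  -- injectivity
  have : CompactSpace E := QuasiCompact.compactSpace_of_compactSpace ψ
  have hqc : CompactSpace ↥(pullback ψ ψ) := QuasiCompact.compactSpace_of_compactSpace (pullback.fst ψ ψ)
  have hopen₂ : IsOpen (Set.range (pullback.diagonal ψ)) := (pullback.diagonal ψ).isOpenEmbedding.isOpen_range
  obtain ⟨m₂, hm₂, h₂⟩ := exists_mem_forall M (pullback.fst ψ ψ ≫ ψ ≫ g) (K := (Set.range (pullback.diagonal ψ))ᶜ)
    hopen₂.isClosed_compl (by
    intro k hk
    by_contra hne
    push Not at hne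
    apply hk
    let κ := (pullback ψ ψ).residueField k
    let y : Spec (CommRingCat.of κ) ⟶ pullback ψ ψ := (pullback ψ ψ).fromSpecResidueField k
    have hs : ∀ s, y s = k := fun s => Scheme.fromSpecResidueField_apply _ _
    let s : ↥(Spec (CommRingCat.of κ)) := IsLocalRing.closedPoint κ
    obtain ⟨l, hl⟩ := exists_lift_loc M L (y ≫ pullback.fst ψ ψ ≫ ψ ≫ g) s (by
      intro m hm
      rw [Scheme.Hom.comp_apply, hs]
      exact hne m hm)
    obtain ⟨x, -, hx⟩ := H _ (y ≫ pullback.fst ψ ψ ≫ ψ) l (by simpa using hl.symm)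
    have e1 := hx (y ≫ pullback.fst ψ ψ) (by simp)
    have e2 := hx (y ≫ pullback.snd ψ ψ) (by simp [pullback.condition])
    have e3 : y = (y ≫ pullback.fst ψ ψ) ≫ pullback.diagonal ψ := by
      apply pullback.hom_ext
      · simp
      · simp [e1, e2]
    refine ⟨(y ≫ pullback.fst ψ ψ) s, ?_⟩
    rw [← Scheme.Hom.comp_apply, ← e3, hs])
  refine ⟨m₁ * m₂, M.mul_mem hm₁ hm₂, ?_⟩
  have uniq : ∀ (Z : Scheme.{u}) (x x' : Z ⟶ E), x ≫ ψ = x' ≫ ψ → (∀ z, m₂ ∉ (g (ψ (x z))).asIdeal) →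
      x = x' := by
    intro Z x x' hxx' hz
    have hr : Set.range (pullback.lift x x' hxx') ⊆ Set.range (pullback.diagonal ψ) := by
      rintro _ ⟨z, rfl⟩
      by_contra hne
      refine hz z ?_
      have := h₂ _ hne
      rw [← Scheme.Hom.comp_apply, ← Category.assoc, pullback.lift_fst, Scheme.Hom.comp_apply,
        Scheme.Hom.comp_apply] at this
      exact this
    have e1 := IsOpenImmersion.lift_fac (pullback.diagonal ψ) (pullback.lift x x' hxx') hr
    have e2 := congrArg (· ≫ pullback.fst ψ ψ) e1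
    have e3 := congrArg (· ≫ pullback.snd ψ ψ) e1
    simp only [Category.assoc, pullback.diagonal_fst, pullback.diagonal_snd, Category.comp_id,
      pullback.lift_fst, pullback.lift_snd] at e2 e3
    exact e2.symm.trans e3
  -- the open part over `D(m)`
  let O : G.Opens := g ⁻¹ᵁ (bo (m₁ * m₂))
  have hO : ∀ z : G, z ∈ O ↔ m₁ * m₂ ∉ (g z).asIdeal := fun z => Iff.rfl
  have hO₁ : ∀ z : G, z ∈ O → m₁ ∉ (g z).asIdeal := fun z hz h => hz (Ideal.mul_mem_right _ _ h)
  have hO₂ : ∀ z : G, z ∈ O → m₂ ∉ (g z).asIdeal := fun z hz h => hz (Ideal.mul_mem_left _ _ h)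
  have hmono : Mono (ψ ∣_ O) := by
    refine ⟨fun {Z} a b hab => ?_⟩
    rw [← cancel_mono (ψ ⁻¹ᵁ O).ι]
    apply uniq
    · rw [Category.assoc, Category.assoc, ← morphismRestrict_ι, ← Category.assoc, hab, Category.assoc]
    · intro z
      apply hO₂
      exact (a z).2
  have hiso : IsIso (ψ ∣_ O) := by
    have : IsOpenImmersion (ψ ∣_ O) := IsOpenImmersion.of_flat_of_mono _
    apply isIso_of_isOpenImmersion_of_opensRange_eq_top
    rw [eq_top_iff]
    rintro ⟨z, hz⟩ -
    have hz' : z ∈ Set.range ψ := by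
      by_contra hne
      exact hO₁ z hz (h₁ z hne)
    obtain ⟨e, he⟩ := hz'
    refine ⟨⟨e, ?_⟩, ?_⟩
    · change ψ e ∈ O
      rw [he]
      exact hz
    · apply Subtype.ext
      change (ψ ∣_ O ≫ O.ι) _ = z
      rw [morphismRestrict_ι]
      exact he
  intro Z y hy
  have hr : Set.range y ⊆ Set.range O.ι := by
    rintro _ ⟨z, rfl⟩
    rw [Scheme.Opens.range_ι]
    exact hy z
  let y' := IsOpenImmersion.lift O.ι y hr
  have hy' : y' ≫ O.ι = y := IsOpenImmersion.lift_fac _ _ _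
  refine ⟨y' ≫ inv (ψ ∣_ O) ≫ (ψ ⁻¹ᵁ O).ι, ?_, ?_⟩
  · change (y' ≫ inv (ψ ∣_ O) ≫ (ψ ⁻¹ᵁ O).ι) ≫ ψ = y
    rw [Category.assoc, Category.assoc, ← morphismRestrict_ι, IsIso.inv_hom_id_assoc, hy']
  · intro x hx
    apply uniq
    · rw [hx, Category.assoc, Category.assoc, ← morphismRestrict_ι, IsIso.inv_hom_id_assoc, hy']
    · intro z
      change m₂ ∉ (g ((x ≫ ψ) z)).asIdeal
      rw [hx]
      exact hO₂ _ (hy z)

end Iso

end K631.Spread
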