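import Groth.Prelude.Def_AlgSpCov
import Mathlib.CategoryTheory.MorphismProperty.Local
import Mathlib.AlgebraicGeometry.Sites.Fpqc
import Mathlib.AlgebraicGeometry.Sites.Etale
import Groth.Agent.AlgSp.K629.Cover
import Groth.Agent.AlgSp.K629.EtLocInst

/-!
# `LocP P` is local on the source for `τ`-coverings when `P` is `τ` local on the source
-/

set_option autoImplicit false
universe u
open CategoryTheory CategoryTheory.Limits AlgebraicGeometry Opposite TopologicalSpace
open AlgSp K629 K629.Basic K629.LocP K629.Cover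

namespace K631.SrcLoc

variable {S : Scheme.{u}}

/-- Charts adapted to an fpqc covering of an algebraic space: the family `T i ⟶ U` is quasi-compact. -/
theorem exists_fpqc_charts {ι : Type u} {X : Sp S} (Xi : ι → Sp S) (g : ∀ i, Xi i ⟶ X)
    (hXi : ∀ i, IsAlgSpace (Xi i)) (hg : IsFpqcCover Xi g)
    {U : Over S} (a : (yon S).obj U ⟶ X) (ha : RepWith @Etale a) :
    ∃ (T : ι → Over S) (t : ∀ i, T i ⟶ U) (c : ∀ i, (yon S).obj (T i) ⟶ Xi i),
      (∀ i, RepWith @Etale (c i)) ∧ (∀ i, c i ≫ g i = (yon S).map (t i) ≫ a) ∧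
      ∀ Z : U.left.Opens, IsAffineOpen Z → IsCompactOpenCovered (fun i => (t i).left) (Z : Set U.left) := by
  choose T' c' hc' hc'' using fun i => (hXi i).atlas
  choose T t q hT hq using fun i => exists_pb_yon ha (c' i ≫ g i)
  refine ⟨T, t, fun i => (yon S).map (q i) ≫ c' i, fun i => repWith_etale_yon_comp (hq i) (hc' i),
    fun i => ?_, fun Z hZ => ?_⟩
  · rw [Category.assoc]
    exact (hT i).w.symm
  let Z' : Over S := Over.mk (Z.ι ≫ U.hom)
  let z : Z' ⟶ U := Over.homMk Z.ι rfl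
  obtain ⟨m, W, d, h1, h2, h3, h4⟩ := hg.2 Z' hZ ((yon S).map z ≫ a)
  choose i l hl using h4
  have key : ∀ j : Fin m, ∃ V : (T (i j)).left.Opens, IsCompact (V : Set (T (i j)).left) ∧
      (t (i j)).left '' V ⊆ Z ∧ ∀ w : ↥(W j).left, (Z.ι ((d j).left w) : ↥U.left) ∈ (t (i j)).left '' V := by
    intro j
    -- `E = W_j ×_{X_i} T'_i`
    obtain ⟨E, e₁, e₂, hE, he⟩ := exists_pb_yon (hc' (i j)) (l j)
    have he' : Surjective e₂.left := repWith_prop (hc'' (i j)) hE
    have hk : (yon S).map (e₂ ≫ d j ≫ z) ≫ a = (yon S).map e₁ ≫ (c' (i j) ≫ g (i j)) := by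
      rw [reassoc_of% hE.w, hl j]
      simp only [(yon S).map_comp, Category.assoc]
    obtain ⟨k, hk'⟩ := (yon S).map_surjective ((hT (i j)).lift _ _ hk)
    have hk1 : k ≫ t (i j) = e₂ ≫ d j ≫ z := by
      apply (yon S).map_injective
      rw [(yon S).map_comp, hk', (hT (i j)).lift_fst]
    have := h1 j
    have hopen : IsOpenMap e₂.left := e₂.left.isOpenMap
    obtain ⟨V, hV, hV'⟩ := IsOpenMap.exists_opens_image_eq_of_prespectralSpace
      (e₂.left.continuous) hopen (U := Set.univ)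
      (by rw [Set.range_eq_univ.mpr he'.surj]) isOpen_univ isCompact_univ
    have hK : IsCompact (k.left '' (V : Set E.left)) := hV.image k.left.continuous
    have hkz : ∀ v : ↥E.left, (t (i j)).left (k.left v) = Z.ι ((d j).left (e₂.left v)) := by
      intro v
      have := congrArg (fun (φ : E ⟶ U) => φ.left v) hk1
      simp only [Over.comp_left, Scheme.Hom.comp_apply] at this
      exact this
    have hKU : k.left '' (V : Set E.left) ⊆ (t (i j)).left ⁻¹' (Z : Set U.left) := by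
      rintro _ ⟨v, hv, rfl⟩
      rw [Set.mem_preimage, hkz]
      exact ((d j).left (e₂.left v) : ↥Z).2
    obtain ⟨V', hV'c, hV'o, hV'1, hV'2⟩ := PrespectralSpace.exists_isCompact_and_isOpen_between hK
      (Z.isOpen.preimage (t (i j)).left.continuous) hKU
    refine ⟨⟨V', hV'o⟩, hV'c, ?_, ?_⟩
    · rintro _ ⟨v, hv, rfl⟩
      exact hV'2 hv
    · intro w
      obtain ⟨v, hv, rfl⟩ := hV'.symm.subset (Set.mem_univ w)
      exact ⟨k.left v, hV'1 ⟨v, hv, rfl⟩, hkz v⟩
  choose V hV1 hV2 hV3 using key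
  refine IsCompactOpenCovered.of_finite i V hV1 ?_
  refine subset_antisymm (Set.iUnion_subset hV2) fun y hy => ?_
  obtain ⟨j, w, hw⟩ := h3 ⟨y, hy⟩
  refine Set.mem_iUnion.mpr ⟨j, ?_⟩
  have := hV3 j w
  rw [hw] at this
  exact this

/-- Abstract form: source locality of `LocP P`. -/
theorem isLocalOnSource {P : MorphismProperty Scheme.{u}} (K : Precoverage Scheme.{u})
    [P.IsLocalAtSource K] (τ : CovNotion S) (R : MorphismProperty Scheme.{u})
    (hτ : ∀ {ι : Type u} {X : Sp S} (Xi : ι → Sp S) (g : ∀ i, Xi i ⟶ X), IsAlgSpace X →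
      (∀ i, IsAlgSpace (Xi i)) → τ Xi g → (∀ i, LocP R (g i)) ∧
      ∀ {U : Over S} (a : (yon S).obj U ⟶ X), RepWith @Etale a →
        ∃ (T : ι → Over S) (t : ∀ i, T i ⟶ U) (c : ∀ i, (yon S).obj (T i) ⟶ Xi i),
        (∀ i, RepWith @Etale (c i)) ∧ (∀ i, c i ≫ g i = (yon S).map (t i) ≫ a) ∧
        Presieve.ofArrows (fun i => (T i).left) (fun i => (t i).left) ∈ K U.left)
    (hR : EtLoc R)
    (hK1 : ∀ {X Y : Scheme.{u}} (f : X ⟶ Y), R f →
      Presieve.ofArrows (fun b : Bool => cond b X Y)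
        (fun b : Bool => (match b with | true => f | false => 𝟙 Y : cond b X Y ⟶ Y)) ∈ K Y)
    (hK2 : ∀ {X Y : Scheme.{u}} (f : X ⟶ Y), Etale f → Surjective f →
      Presieve.singleton f ∈ K Y) :
    IsLocalOnSource τ (LocP P) := by
  intro ι X Xi g hX hXi hg Y f hY
  obtain ⟨h1, h2⟩ := hτ Xi g hX hXi hg
  have hcomp : ∀ {X Y Z : Scheme.{u}} (f : X ⟶ Y) (g : Y ⟶ Z), R f → P g → P (f ≫ g) := by
    intro X Y Z f g hf hg
    exact MorphismProperty.IsLocalAtSource.comp (hK1 f hf) f (Presieve.ofArrows.mk true) hg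
  have hdesc : ∀ {X Y Z : Scheme.{u}} (f : X ⟶ Y) (g : Y ⟶ Z), Etale f → Surjective f →
      P (f ≫ g) → P g := by
    intro X Y Z f g hf hf' hg
    refine MorphismProperty.IsLocalAtSource.of_forall_comp (hK2 f hf hf') ?_
    rintro _ _ ⟨⟩
    exact hg
  refine ⟨fun hf i => K629.LocP.comp hcomp hR.of_comp_etale hdesc hX (g i) f (h1 i) hf, fun h => ?_⟩
  intro U V a b k ha hb hab
  obtain ⟨T, t, c, h3, h4, h5⟩ := h2 a ha
  refine MorphismProperty.IsLocalAtSource.of_forall_comp h5 ?_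
  rintro _ _ ⟨i⟩
  have := h i (c i) b (t i ≫ k) (h3 i) hb (by
    rw [← Category.assoc, h4, Category.assoc, hab, (yon S).map_comp, Category.assoc])
  rwa [Over.comp_left] at this

/-- The case of jointly surjective families. -/
theorem isLocalOnSource_precoverage {P : MorphismProperty Scheme.{u}} (R : MorphismProperty Scheme.{u})
    (hP : P.IsLocalAtSource (Scheme.precoverage R)) (τ : CovNotion S)
    (hτ : ∀ {ι : Type u} {X : Sp S} (Xi : ι → Sp S) (g : ∀ i, Xi i ⟶ X), τ Xi g →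
      (∀ i, LocP R (g i)) ∧ ∀ x : Points X, ∃ i, x ∈ Set.range (Points.map (g i)))
    (hR : EtLoc R) (hR' : ∀ X : Scheme.{u}, R (𝟙 X))
    (hR'' : ∀ {X Y : Scheme.{u}} (f : X ⟶ Y), Etale f → R f) :
    IsLocalOnSource τ (LocP P) := by
  refine isLocalOnSource (Scheme.precoverage R) τ R ?_ hR ?_ ?_
  · intro ι X Xi g hX hXi hg
    obtain ⟨h1, h2⟩ := hτ Xi g hg
    refine ⟨h1, fun {U} a ha => ?_⟩
    obtain ⟨T, t, c, h3, h4, h5⟩ := exists_charts Xi g hXi h2 a ha
    refine ⟨T, t, c, h3, h4, ?_⟩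
    rw [Scheme.ofArrows_mem_precoverage_iff]
    exact ⟨h5, fun i => h1 i (c i) a (t i) (h3 i) ha (h4 i)⟩
  · intro X Y f hf
    rw [Scheme.ofArrows_mem_precoverage_iff]
    refine ⟨fun y => ⟨false, y, rfl⟩, fun i => ?_⟩
    cases i
    · exact hR' Y
    · exact hf
  · intro X Y f hf hf'
    rw [Scheme.singleton_mem_precoverage_iff]
    exact ⟨hf'.surj, hR'' f hf⟩

/-- The fpqc case. -/
theorem isLocalOnSource_fpqc {P : MorphismProperty Scheme.{u}}
    (hP : P.IsLocalAtSource Scheme.fpqcPrecoverage) :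
    IsLocalOnSource (IsFpqcCover (S := S)) (LocP P) := by
  have hjs : ∀ {X : Scheme.{u}} {ι : Type u} {T : ι → Scheme.{u}} (t : ∀ i, T i ⟶ X),
      (∀ Z : X.Opens, IsAffineOpen Z → IsCompactOpenCovered (fun i => t i) (Z : Set X)) →
      (∀ i, Flat (t i)) → Presieve.ofArrows T t ∈ Scheme.fpqcPrecoverage X := by
    intro X ι T t h1 h2
    refine ⟨?_, ?_⟩
    · let E : PreZeroHypercover.{u} X := ⟨ι, T, t⟩
      exact (Scheme.presieve₀_mem_qcPrecoverage_iff (E := E)).mpr ⟨fun {U} hU => h1 U hU⟩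
    · rw [Scheme.ofArrows_mem_precoverage_iff]
      refine ⟨fun x => ?_, h2⟩
      obtain ⟨Z, hZ, hx, -⟩ := exists_isAffineOpen_mem_and_subset (x := x) (U := ⊤) (by trivial)
      obtain ⟨s, hs, V, hV1, hV2⟩ := h1 Z hZ
      have : x ∈ (Z : Set X) := hx
      rw [← hV2] at this
      simp only [Set.mem_iUnion] at this
      obtain ⟨i, h, y, -, hy⟩ := this
      exact ⟨i, y, hy⟩
  refine isLocalOnSource Scheme.fpqcPrecoverage _ @Flat ?_ EtLocInst.flat ?_ ?_
  · intro ι X Xi g hX hXi hg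
    refine ⟨hg.1, fun {U} a ha => ?_⟩
    obtain ⟨T, t, c, h3, h4, h5⟩ := exists_fpqc_charts Xi g hXi hg a ha
    exact ⟨T, t, c, h3, h4, hjs _ h5 fun i => hg.1 i (c i) a (t i) (h3 i) ha (h4 i)⟩
  · intro X Y f hf
    refine ⟨?_, ?_⟩
    · let E : PreZeroHypercover.{0} Y := ⟨Bool, fun b => cond b X Y,
        fun b => (match b with | true => f | false => 𝟙 Y : cond b X Y ⟶ Y)⟩
      refine (Scheme.presieve₀_mem_qcPrecoverage_iff (E := E)).mpr ⟨fun {U} hU => ?_⟩
      refine IsCompactOpenCovered.of_finite (κ := Unit) (fun _ => false) (fun _ => U)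
        (fun _ => hU.isCompact) ?_
      rw [Set.iUnion_const]
      exact Set.image_id _
    · rw [Scheme.ofArrows_mem_precoverage_iff]
      refine ⟨fun y => ⟨false, y, rfl⟩, fun i => ?_⟩
      cases i
      · exact (inferInstance : Flat (𝟙 Y))
      · exact hf
  · intro X Y f hf hf'
    exact Scheme.fppfPrecoverage_le_fpqcPrecoverage _ (Scheme.Hom.singleton_mem_fppfPrecoverage f)

end K631.SrcLoc
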