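import Groth.Agent.AlgSp.K631.UHLift
import Groth.Agent.AlgSp.K615.Glue
import Groth.Agent.AlgSp.K594.Bootstrap
import Groth.Agent.AlgSp.K610.EtaleMor

/-!
# Étale schemes over `X` come from étale algebraic spaces over `Y` along a universal homeomorphism `X ⟶ Y`
-/

set_option autoImplicit false
universe u
open CategoryTheory CategoryTheory.Limits AlgebraicGeometry Opposite

namespace K631.UHDesc

open AlgSp K613.Cover K631.UHLift K615.Glue

variable {S : Scheme.{u}} {X Y : Sp S} {f : X ⟶ Y} (hfu : RepWith UH f)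
  {V W WV EV : Over S} {a : (yon S).obj V ⟶ Y} {q : (yon S).obj W ⟶ X}
  {α : WV ⟶ W} {γ : WV ⟶ V} {i : WV ⟶ EV} {e : EV ⟶ V}

/-- The points `n`, `n'` of `EV` have the same image in the glued space. -/
def Rel (a : (yon S).obj V ⟶ Y) (q : (yon S).obj W ⟶ X) (α : WV ⟶ W) (i : WV ⟶ EV) (e : EV ⟶ V) {T : Over S}
    (n n' : (yon S).obj T ⟶ (yon S).obj EV) : Prop :=
  n ≫ (yon S).map e ≫ a = n' ≫ (yon S).map e ≫ a ∧
  ∀ (Z : Over S) (z : Z ⟶ T) (r r' : (yon S).obj Z ⟶ (yon S).obj WV),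
    r ≫ (yon S).map i = (yon S).map z ≫ n → r' ≫ (yon S).map i = (yon S).map z ≫ n' →
    r ≫ (yon S).map α ≫ q = r' ≫ (yon S).map α ≫ q → r ≫ (yon S).map α = r' ≫ (yon S).map α

theorem Rel.symm {T : Over S} {n n' : (yon S).obj T ⟶ (yon S).obj EV} (h : Rel a q α i e n n') :
    Rel a q α i e n' n :=
  ⟨h.1.symm, fun Z z r r' h1 h2 h3 => (h.2 Z z r' r h2 h1 h3.symm).symm⟩

theorem Rel.comp {T T' : Over S} {n n' : (yon S).obj T ⟶ (yon S).obj EV} (h : Rel a q α i e n n') (g : T' ⟶ T) :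
    Rel a q α i e ((yon S).map g ≫ n) ((yon S).map g ≫ n') := by
  refine ⟨?_, fun Z z r r' h1 h2 h3 => h.2 Z (z ≫ g) r r' ?_ ?_ h3⟩
  · rw [Category.assoc, Category.assoc, h.1]
  · rw [h1, Functor.map_comp, Category.assoc]
  · rw [h2, Functor.map_comp, Category.assoc]

theorem Rel.refl (D2 : IsPullback ((yon S).map i) ((yon S).map α ≫ q) ((yon S).map e ≫ a) f)
    {T : Over S} (n : (yon S).obj T ⟶ (yon S).obj EV) : Rel a q α i e n n := by
  refine ⟨rfl, fun Z z r r' h1 h2 h3 => ?_⟩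
  have : r = r' := D2.hom_ext (h1.trans h2.symm) h3
  rw [this]

theorem Rel.trans (D2 : IsPullback ((yon S).map i) ((yon S).map α ≫ q) ((yon S).map e ≫ a) f)
    {T : Over S} {n n' n'' : (yon S).obj T ⟶ (yon S).obj EV} (h : Rel a q α i e n n') (h' : Rel a q α i e n' n'') :
    Rel a q α i e n n'' := by
  refine ⟨h.1.trans h'.1, fun Z z r r'' h1 h2 h3 => ?_⟩
  have hw : ((yon S).map z ≫ n') ≫ (yon S).map e ≫ a = (r ≫ (yon S).map α ≫ q) ≫ f := by
    rw [Category.assoc, ← h.1, ← Category.assoc, ← h1, Category.assoc, D2.w]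
    simp only [Category.assoc]
  let r' := D2.lift _ _ hw
  have hr1 : r' ≫ (yon S).map i = (yon S).map z ≫ n' := D2.lift_fst _ _ _
  have hr2 : r' ≫ (yon S).map α ≫ q = r ≫ (yon S).map α ≫ q := D2.lift_snd _ _ _
  exact (h.2 Z z r r' h1 hr1 hr2.symm).trans (h'.2 Z z r' r'' hr1 h2 (hr2.trans h3))

include hfu

theorem Rel.eq (D1 : IsPullback ((yon S).map α) ((yon S).map γ) (q ≫ f) a)
    (D2 : IsPullback ((yon S).map i) ((yon S).map α ≫ q) ((yon S).map e ≫ a) f) (hie : i ≫ e = γ)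
    (he : Etale e.left) {T : Over S} {n n' : (yon S).obj T ⟶ (yon S).obj EV} (h : Rel a q α i e n n')
    (h' : n ≫ (yon S).map e = n' ≫ (yon S).map e) : n = n' := by
  obtain ⟨TX, τ, ξ, sq⟩ := hfu.1 (n ≫ (yon S).map e ≫ a)
  have hτ : UH τ.left := hfu.2 _ _ _ sq
  have hw : ((yon S).map τ ≫ n) ≫ (yon S).map e ≫ a = ξ ≫ f := by
    rw [Category.assoc, sq.w]
  have hw' : ((yon S).map τ ≫ n') ≫ (yon S).map e ≫ a = ξ ≫ f := by
    rw [Category.assoc, ← h.1, sq.w]
  have h1 : D2.lift _ _ hw ≫ (yon S).map i = (yon S).map τ ≫ n := D2.lift_fst _ _ _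
  have h1' : D2.lift _ _ hw' ≫ (yon S).map i = (yon S).map τ ≫ n' := D2.lift_fst _ _ _
  have h2 : D2.lift _ _ hw ≫ (yon S).map α ≫ q = ξ := D2.lift_snd _ _ _
  have h2' : D2.lift _ _ hw' ≫ (yon S).map α ≫ q = ξ := D2.lift_snd _ _ _
  have h3 := h.2 _ τ _ _ h1 h1' (h2.trans h2'.symm)
  have h4 : D2.lift _ _ hw = D2.lift _ _ hw' := by
    apply D1.hom_ext h3
    rw [← hie, Functor.map_comp, ← Category.assoc, ← Category.assoc, h1, h1', Category.assoc, Category.assoc, h']
  refine unique_lift ((repWith_yon_map_iff _ _).2 he : RepWith @Etale ((yon S).map e)) τ hτ n n' ?_ h'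
  rw [← h1, ← h1', h4]

theorem exists_tr (D1 : IsPullback ((yon S).map α) ((yon S).map γ) (q ≫ f) a)
    (D2 : IsPullback ((yon S).map i) ((yon S).map α ≫ q) ((yon S).map e ≫ a) f) (hie : i ≫ e = γ)
    (he : Etale e.left) {T : Over S} (n : (yon S).obj T ⟶ (yon S).obj EV) (u : (yon S).obj T ⟶ (yon S).obj V)
    (h : n ≫ (yon S).map e ≫ a = u ≫ a) :
    ∃ n' : (yon S).obj T ⟶ (yon S).obj EV, n' ≫ (yon S).map e = u ∧ Rel a q α i e n n' := by
  obtain ⟨TX, τ, ξ, sq⟩ := hfu.1 (u ≫ a)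
  have hτ : UH τ.left := hfu.2 _ _ _ sq
  have hw : ((yon S).map τ ≫ n) ≫ (yon S).map e ≫ a = ξ ≫ f := by
    rw [Category.assoc, h, sq.w]
  let ω := D2.lift _ _ hw
  have hω1 : ω ≫ (yon S).map i = (yon S).map τ ≫ n := D2.lift_fst _ _ _
  have hω2 : ω ≫ (yon S).map α ≫ q = ξ := D2.lift_snd _ _ _
  have hw2 : (ω ≫ (yon S).map α) ≫ q ≫ f = ((yon S).map τ ≫ u) ≫ a := by
    rw [Category.assoc, ← Category.assoc ((yon S).map α), ← Category.assoc ω, hω2, sq.w, Category.assoc]
  let ρ := D1.lift _ _ hw2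
  have hρ1 : ρ ≫ (yon S).map α = ω ≫ (yon S).map α := D1.lift_fst _ _ _
  have hρ2 : ρ ≫ (yon S).map γ = (yon S).map τ ≫ u := D1.lift_snd _ _ _
  obtain ⟨n', ⟨h1, h2⟩, -⟩ := existsUnique_lift
    ((repWith_yon_map_iff _ _).2 he : RepWith @Etale ((yon S).map e)) τ hτ (ρ ≫ (yon S).map i) u (by
      rw [Category.assoc, ← Functor.map_comp, hie, hρ2])
  refine ⟨n', h2, ?_, fun Z z r r' hr hr' hx => ?_⟩
  · rw [h, ← Category.assoc, h2]
  · have hw3 : (r ≫ (yon S).map α ≫ q) ≫ f = (yon S).map z ≫ u ≫ a := by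
      rw [← h, ← Category.assoc ((yon S).map z), ← hr]
      simp only [Category.assoc]
      rw [D2.w, Category.assoc]
    let ζ := sq.lift _ _ hw3
    have hζ1 : ζ ≫ ξ = r ≫ (yon S).map α ≫ q := sq.lift_fst _ _ _
    have hζ2 : ζ ≫ (yon S).map τ = (yon S).map z := sq.lift_snd _ _ _
    have e1 : r = ζ ≫ ω := by
      apply D2.hom_ext
      · rw [hr, Category.assoc, hω1, ← Category.assoc, hζ2]
      · rw [Category.assoc, hω2, hζ1]
    have e2 : r' = ζ ≫ ρ := by
      apply D2.hom_ext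
      · rw [hr', Category.assoc, ← h1, ← Category.assoc, hζ2]
      · rw [← hx, Category.assoc, ← Category.assoc ρ, hρ1, Category.assoc, hω2, hζ1]
    rw [e1, e2, Category.assoc, Category.assoc, hρ1]

/-- The descent datum. -/
theorem exists_DD (D1 : IsPullback ((yon S).map α) ((yon S).map γ) (q ≫ f) a)
    (D2 : IsPullback ((yon S).map i) ((yon S).map α ≫ q) ((yon S).map e ≫ a) f) (hie : i ≫ e = γ)
    (he : Etale e.left) :
    ∃ D : DD (ι := PUnit.{u + 2}) (fun _ => (yon S).obj V) (fun _ => a) (fun _ => (yon S).obj EV)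
      (fun _ => (yon S).map e), ∀ {T : Over S} (n : (yon S).obj T ⟶ (yon S).obj EV)
        (v : (yon S).obj T ⟶ (yon S).obj V) (h : n ≫ (yon S).map e ≫ a = v ≫ a),
        Rel a q α i e n (D.tr ⟨⟩ ⟨⟩ n v h) := by
  have tr : ∀ {T : Over S} (n : (yon S).obj T ⟶ (yon S).obj EV) (v : (yon S).obj T ⟶ (yon S).obj V)
      (h : n ≫ (yon S).map e ≫ a = v ≫ a), ∃ n' : (yon S).obj T ⟶ (yon S).obj EV,
      n' ≫ (yon S).map e = v ∧ Rel a q α i e n n' := fun n v h => exists_tr hfu D1 D2 hie he n v h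
  choose tr htr1 htr2 using @tr
  refine ⟨{
    tr := fun _ _ n v h => tr n v h
    tr_ν := fun _ _ n v h => htr1 n v h
    tr_nat := ?_
    tr_self := ?_
    tr_tr := ?_ }, fun n v h => htr2 n v h⟩
  · intro T T' g _ _ n v h h'
    refine Rel.eq hfu D1 D2 hie he ((htr2 _ _ h').symm.trans D2 ((htr2 n v h).comp g)) ?_
    rw [htr1, Category.assoc, htr1]
  · intro T _ n v h hv
    refine Rel.eq hfu D1 D2 hie he (htr2 n v h).symm ?_
    rw [htr1, hv]
  · intro T _ _ _ n v v' h h' h''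
    refine Rel.eq hfu D1 D2 hie he ((htr2 _ _ h').symm.trans D2 ((htr2 n v h).symm.trans D2 (htr2 n v' h''))) ?_
    rw [htr1, htr1]

/-- Étale schemes over `X` come from étale algebraic spaces over `Y`. -/
theorem exists_space (hY : IsAlgSpace Y) (q : (yon S).obj W ⟶ X) (hq : RepWith @Etale q) :
    ∃ (E : Sp S) (π : E ⟶ Y) (κ : (yon S).obj W ⟶ E), IsAlgSpace E ∧ IsEtaleMor π ∧ IsPullback κ q π f := by
  obtain ⟨V, a, hae, has⟩ := hY.atlas
  obtain ⟨VX, v, ξ, sqV⟩ := hfu.1 a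
  have hv : UH v.left := hfu.2 _ _ _ sqV
  obtain ⟨WV, β, α', sqW⟩ := hq.1 ξ
  obtain ⟨α, rfl⟩ := (yon S).map_surjective α'
  have hβ : Etale β.left := hq.2 _ _ _ sqW
  obtain ⟨EV, e, i, he, sqE⟩ := over_exists_etale v hv β
  have D1 : IsPullback ((yon S).map α) ((yon S).map (i ≫ e)) (q ≫ f) a := by
    rw [sqE.w, Functor.map_comp]
    exact sqW.paste_vert sqV
  have D2 : IsPullback ((yon S).map i) ((yon S).map α ≫ q) ((yon S).map e ≫ a) f := by
    rw [sqW.w]
    exact (sqE.map (yon S)).paste_vert sqV.flip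
  obtain ⟨D, hD⟩ := exists_DD hfu D1 D2 rfl he
  let E : Sp S := glued D
  let π' : E ⟶ Y := K615.Glue.π D
  let m' : (yon S).obj EV ⟶ E := K615.Glue.m D ⟨⟩
  have sqm : IsPullback m' ((yon S).map e) π' a := K615.Glue.isPullback (D := D) ⟨⟩
  have hme : RepWith @Etale m' := MorphismProperty.of_isPullback (P := RepWith @Etale) sqm.flip hae
  have hms : RepWith @Surjective m' := MorphismProperty.of_isPullback (P := RepWith @Surjective) sqm.flip has
  have hE : IsAlgSpace E := K594.Bootstrap.isAlgSpace_of_etale m' hme hms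
  have hπ : IsEtaleMor π' := by
    refine K610.EtaleMor.isEtaleMor_of_chart hY hme hms ?_
    rw [sqm.w]
    exact MorphismProperty.comp_mem _ _ _ ((repWith_yon_map_iff _ _).2 he : RepWith @Etale ((yon S).map e)) hae
  -- the map from `W`
  have hαe : RepWith @Etale ((yon S).map α) := MorphismProperty.of_isPullback (P := RepWith @Etale) D1.flip hae
  have hαs : RepWith @Surjective ((yon S).map α) :=
    MorphismProperty.of_isPullback (P := RepWith @Surjective) D1.flip has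
  have hαF : FSurj ((yon S).map α) := (ESurj.of_repWith hαe hαs).fSurj
  obtain ⟨κ, hκ, -⟩ := hαF.desc ((yon S).map i ≫ m') (by
    intro R x y hxy
    have hxq : x ≫ (yon S).map α ≫ q = y ≫ (yon S).map α ≫ q := by
      rw [← Category.assoc, hxy, Category.assoc]
    have hw : (x ≫ (yon S).map i) ≫ (yon S).map e ≫ a = (y ≫ (yon S).map (i ≫ e)) ≫ a := by
      have h1 : (x ≫ (yon S).map (i ≫ e)) ≫ a = (y ≫ (yon S).map (i ≫ e)) ≫ a := by
        rw [Category.assoc, Category.assoc, ← D1.w, ← Category.assoc, ← Category.assoc y, hxy]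
      rw [← h1, Functor.map_comp]
      simp only [Category.assoc]
    have hrel := hD (x ≫ (yon S).map i) (y ≫ (yon S).map (i ≫ e)) hw
    have htr := K615.Glue.tr_m (D := D) ⟨⟩ ⟨⟩ (x ≫ (yon S).map i) (y ≫ (yon S).map (i ≫ e)) hw
    have hν := D.tr_ν ⟨⟩ ⟨⟩ (x ≫ (yon S).map i) (y ≫ (yon S).map (i ≫ e)) hw
    set n' := D.tr ⟨⟩ ⟨⟩ (x ≫ (yon S).map i) (y ≫ (yon S).map (i ≫ e)) hw
    have hw2 : n' ≫ (yon S).map e ≫ a = (y ≫ (yon S).map α ≫ q) ≫ f := by
      rw [← Category.assoc, hν, Category.assoc, ← D1.w]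
      simp only [Category.assoc]
    let r' := D2.lift _ _ hw2
    have hr1 : r' ≫ (yon S).map i = n' := D2.lift_fst _ _ _
    have hr2 : r' ≫ (yon S).map α ≫ q = y ≫ (yon S).map α ≫ q := D2.lift_snd _ _ _
    have h2 := hrel.2 R (𝟙 R) x r' (by rw [(yon S).map_id, Category.id_comp])
      (by rw [(yon S).map_id, Category.id_comp, hr1]) (hxq.trans hr2.symm)
    have h3 : r' = y := by
      apply D1.hom_ext
      · rw [← h2, hxy]
      · rw [Functor.map_comp, ← Category.assoc, hr1, hν, Functor.map_comp]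
    have h4 : n' = y ≫ (yon S).map i := by rw [← hr1, h3]
    rw [← Category.assoc, ← Category.assoc, ← h4]
    exact htr.symm)
  have hκπ : κ ≫ π' = q ≫ f := by
    have := hαF.epi
    rw [← cancel_epi ((yon S).map α), ← Category.assoc, hκ, Category.assoc, sqm.w, ← Category.assoc,
      ← Functor.map_comp, D1.w]
  refine ⟨E, π', κ, hE, hπ, ?_⟩
  -- the comparison with the fibre product
  have sqP := IsPullback.of_hasPullback π' f
  let k : (yon S).obj W ⟶ pullback π' f := pullback.lift κ q hκπ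
  have hk1 : k ≫ pullback.fst π' f = κ := pullback.lift_fst _ _ _
  have hk2 : k ≫ pullback.snd π' f = q := pullback.lift_snd _ _ _
  have hcw : ((yon S).map i ≫ m') ≫ π' = ((yon S).map α ≫ q) ≫ f := by
    rw [Category.assoc, sqm.w, D2.w]
  let c : (yon S).obj WV ⟶ pullback π' f := pullback.lift ((yon S).map i ≫ m') ((yon S).map α ≫ q) hcw
  have hc1 : c ≫ pullback.fst π' f = (yon S).map i ≫ m' := pullback.lift_fst _ _ _
  have hc2 : c ≫ pullback.snd π' f = (yon S).map α ≫ q := pullback.lift_snd _ _ _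
  have sq1 : IsPullback c ((yon S).map i) (pullback.fst π' f) m' := by
    refine IsPullback.of_right ?_ hc1 sqP.flip
    rw [hc2, sqm.w]
    exact D2.flip
  have sq2 : IsPullback c ((yon S).map (i ≫ e)) (pullback.fst π' f ≫ π') a := by
    rw [Functor.map_comp]
    exact sq1.paste_vert sqm
  have hkc : (yon S).map α ≫ k = c := by
    apply pullback.hom_ext
    · rw [Category.assoc, hk1, hκ, hc1]
    · rw [Category.assoc, hk2, hc2]
  have sq3 : IsPullback ((yon S).map α) (𝟙 _) k c := by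
    have D1' : IsPullback ((yon S).map α) (𝟙 _ ≫ (yon S).map (i ≫ e)) (k ≫ pullback.fst π' f ≫ π') a := by
      rw [Category.id_comp, ← Category.assoc, hk1, hκπ]
      exact D1
    exact IsPullback.of_bot D1' (by rw [hkc, Category.id_comp]) sq2
  have hcF : FSurj c := by
    have h1 : RepWith @Etale c := MorphismProperty.of_isPullback (P := RepWith @Etale) sq2.flip hae
    have h2 : RepWith @Surjective c := MorphismProperty.of_isPullback (P := RepWith @Surjective) sq2.flip has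
    exact (ESurj.of_repWith h1 h2).fSurj
  have hki : IsIso k := hcF.isIso sq3
  refine IsPullback.of_iso sqP (asIso k).symm (Iso.refl _) (Iso.refl _) (Iso.refl _) ?_ ?_ ?_ ?_
  · simp only [Iso.symm_hom, asIso_inv, Iso.refl_hom, Category.comp_id]
    rw [IsIso.eq_inv_comp, hk1]
  · simp only [Iso.symm_hom, asIso_inv, Iso.refl_hom, Category.comp_id]
    rw [IsIso.eq_inv_comp, hk2]
  · simp
  · simp

/-- Base change of the small étale site along a universal homeomorphism is essentially surjective, provided étale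
algebraic spaces over `Y` are schemes as soon as their base changes to `X` are. -/
theorem essSurj_bc (hf : Representable f) (hY : IsAlgSpace Y)
    (H : ∀ (E : Sp S) (π : E ⟶ Y) (W : Over S) (κ : (yon S).obj W ⟶ E) (q : (yon S).obj W ⟶ X),
      IsAlgSpace E → IsEtaleMor π → IsPullback κ q π f → ∃ H : Over S, Nonempty ((yon S).obj H ≅ E)) :
    (EtOver.bc hf).EssSurj where
  mem_essImage F := by
    obtain ⟨E, π', κ, hE, hπ, sq⟩ := exists_space hfu hY F.obj.hom F.property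
    obtain ⟨H', ⟨ε⟩⟩ := H E π' F.obj.left κ F.obj.hom hE hπ sq
    have h1 : RepWith @Etale (ε.hom ≫ π') :=
      hπ ε.hom ((MorphismProperty.isomorphisms_le_of_containsIdentities _) _ (inferInstance : IsIso ε.hom))
    let E' : EtOver Y := EtOver.mk (ε.hom ≫ π') h1
    have sq1 : IsPullback (κ ≫ ε.inv) F.obj.hom (ε.hom ≫ π') f := by
      refine IsPullback.of_iso sq (Iso.refl _) ε.symm (Iso.refl _) (Iso.refl _) ?_ ?_ ?_ ?_ <;> simp
    have sq2 : IsPullback (hf.fst (ε.hom ≫ π')) ((yon S).map (hf.snd (ε.hom ≫ π'))) f (ε.hom ≫ π') :=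
      hf.isPullback _
    let θ : (yon S).obj (hf.pullback (ε.hom ≫ π')) ≅ (yon S).obj F.obj.left := sq2.isoIsPullback _ _ sq1.flip
    have hθ : θ.hom ≫ F.obj.hom = hf.fst (ε.hom ≫ π') := IsPullback.isoIsPullback_hom_fst _ _ sq2 sq1.flip
    have hθ' : θ.inv ≫ hf.fst (ε.hom ≫ π') = F.obj.hom := IsPullback.isoIsPullback_inv_fst _ _ sq2 sq1.flip
    let t : hf.pullback (ε.hom ≫ π') ≅ F.obj.left := (yon S).preimageIso θ
    have ht : (yon S).map t.hom = θ.hom := by simp [t]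
    have ht' : (yon S).map t.inv = θ.inv := by simp [t]
    refine ⟨E', ⟨⟨EtOver.homMk (E := EtOver.bcObj hf E') (E' := F) t.hom ?_,
      EtOver.homMk (E := F) (E' := EtOver.bcObj hf E') t.inv ?_, ?_, ?_⟩⟩⟩
    · exact (congrArg (· ≫ F.obj.hom) ht).trans hθ
    · exact (congrArg (· ≫ hf.fst (ε.hom ≫ π')) ht').trans hθ'
    · apply EtOver.hom_ext
      exact t.hom_inv_id
    · apply EtOver.hom_ext
      exact t.inv_hom_id

end K631.UHDesc
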