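import Groth.Agent.AlgSp.K631.UHDesc
import Groth.Agent.AlgSp.K631.Base
import Groth.Agent.AlgSp.K597.UnivInj
import Groth.Agent.AlgSp.K617.FinLoc
import Groth.Agent.AlgSp.K610.ZarGlue
import Groth.Agent.S0593
import Groth.Prelude.Def_AlgSpInf

/-!
# Topological invariance of the small étale site of an algebraic space
-/

set_option autoImplicit false
universe u
open CategoryTheory CategoryTheory.Limits AlgebraicGeometry Opposite

namespace K631.UHEquiv

open AlgSp K631.UHLift

variable {S : Scheme.{u}} {X Y : Sp S} {f : X ⟶ Y}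

theorem repWith_UH (hf : Representable f) (h1 : IsIntegralMor f) (h2 : IsUnivInjectiveMor f)
    (h3 : IsSurjectiveMor f) : RepWith UH f := by
  have e1 : RepWith @IsIntegralHom f := K617.FinLoc.isIntegralMor_iff.1 h1
  have e2 : RepWith @UniversallyInjective f := K597.UnivInj.repWith_of_isUnivInjectiveMor hf h2
  have e3 : RepWith @Surjective f := (K610.Base.repWith_surjective_iff hf).2 h3
  exact ⟨hf, fun _ _ g fst snd sq => ⟨⟨e1.2 g fst snd sq, e2.2 g fst snd sq⟩, e3.2 g fst snd sq⟩⟩

theorem repWith_UH_of_isThickMor (h : IsThickMor f) : RepWith UH f := by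
  refine ⟨h.1, fun _ _ g fst snd sq => ?_⟩
  have h1 := h.2 g fst snd sq
  have := h1.1
  have := h1.2
  exact ⟨⟨inferInstance, inferInstance⟩, inferInstance⟩

theorem isIntegralMor_of_UH (h : RepWith UH f) : IsIntegralMor f :=
  K617.FinLoc.isIntegralMor_iff.2 ⟨h.1, fun _ _ g fst snd sq => (h.2 g fst snd sq).int⟩

theorem bijective_of_UH (h : RepWith UH f) : Function.Bijective (Points.map f) :=
  ⟨K597.UnivInj.injective_of_repWith ⟨h.1, fun _ _ g fst snd sq => (h.2 g fst snd sq).inj⟩,
    (K610.Base.repWith_surjective_iff h.1).1 ⟨h.1, fun _ _ g fst snd sq => (h.2 g fst snd sq).surj⟩⟩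

/-- Equivalence of small étale sites along a universal homeomorphism, given that algebraic spaces étale over the target
are schemes as soon as their base changes are. -/
theorem isEquivalence_bc (hf : Representable f) (hfu : RepWith UH f) (hY : IsAlgSpace Y)
    (H : ∀ (E : Sp S) (W : Over S) (κ : (yon S).obj W ⟶ E), IsAlgSpace E → RepWith UH κ →
      ∃ H : Over S, Nonempty ((yon S).obj H ≅ E)) : (EtOver.bc hf).IsEquivalence := by
  have := faithful_bc hf hfu
  have := full_bc hf hfu
  have := K631.UHDesc.essSurj_bc hfu hf hY (fun E π W κ q hE hπ sq =>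
    H E W κ hE (MorphismProperty.of_isPullback (P := RepWith UH) sq.flip hfu))
  exact { }

/-- Variant of `isEquivalence_bc`: the hypothesis may use the pull back square. -/
theorem isEquivalence_bc' (hf : Representable f) (hfu : RepWith UH f) (hY : IsAlgSpace Y)
    (H : ∀ (E : Sp S) (π : E ⟶ Y) (W : Over S) (κ : (yon S).obj W ⟶ E) (q : (yon S).obj W ⟶ X),
      IsAlgSpace E → IsEtaleMor π → IsPullback κ q π f → ∃ H : Over S, Nonempty ((yon S).obj H ≅ E)) :
    (EtOver.bc hf).IsEquivalence := by
  have := faithful_bc hf hfu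
  have := full_bc hf hfu
  have := K631.UHDesc.essSurj_bc hfu hf hY H
  exact { }

/-- A scheme étale over the target is affine iff its base change is. -/
theorem isAffine_iff (hf : Representable f) (hfu : RepWith UH f) (E : EtOver Y) :
    IsAffine E.obj.left.left ↔ IsAffine ((EtOver.bc hf).obj E).obj.left.left := by
  have h : UH (EtOver.bcπ hf E).left := hfu.2 _ _ _ (EtOver.isPullback_bcObj hf E)
  have key : ∀ {A B : Scheme.{u}} (g : A ⟶ B), UH g → (IsAffine B ↔ IsAffine A) := by
    intro A B g hg
    have := hg.int; have := hg.surj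
    exact ⟨fun h1 => isAffine_of_isAffineHom g, fun h1 => Groth.Agent.S0593.result _ _ g⟩
  exact key _ h

end K631.UHEquiv
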