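import Groth.Prelude.Def_AlgSpOX2
import Groth.Agent.AlgSp.K613.Cover
import Groth.Agent.Etbase.TopInv
import Groth.Agent.S0075

/-!
# Étale maps have the unique lifting property along universal homeomorphisms

`UH` is the property "integral, universally injective and surjective" of morphisms of schemes.
-/

set_option autoImplicit false
universe u
open CategoryTheory CategoryTheory.Limits AlgebraicGeometry Opposite

namespace K631.UHLift

open AlgSp

variable {S : Scheme.{u}}

/-- Integral, universally injective and surjective. -/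
def UH : MorphismProperty Scheme.{u} := @IsIntegralHom ⊓ @UniversallyInjective ⊓ @Surjective

instance : UH.IsStableUnderBaseChange := by
  unfold UH
  infer_instance

theorem UH.int {X Y : Scheme.{u}} {f : X ⟶ Y} (h : UH f) : IsIntegralHom f := h.1.1
theorem UH.inj {X Y : Scheme.{u}} {f : X ⟶ Y} (h : UH f) : UniversallyInjective f := h.1.2
theorem UH.surj {X Y : Scheme.{u}} {f : X ⟶ Y} (h : UH f) : Surjective f := h.2

theorem scheme_existsUnique_lift {X Y T T' : Scheme.{u}} (f : X ⟶ Y) [Etale f] (j : T ⟶ T')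
    (hj : UH j) (a : T ⟶ X) (b : T' ⟶ Y) (w : a ≫ f = j ≫ b) :
    ∃! l : T' ⟶ X, j ≫ l = a ∧ l ≫ f = b := by
  have := hj.int; have := hj.inj; have := hj.surj
  have : UniversallyClosed j := inferInstance
  obtain ⟨l, h1, h2⟩ := Groth.Agent.Etbase.TopInv.exists_lift_of_univHomeo f b j a w
  refine ⟨l, ⟨h2, h1⟩, ?_⟩
  rintro l' ⟨h3, h4⟩
  exact Groth.Agent.Etbase.TopInv.ext_of_surjective f j l' l (by rw [h1, h4]) (by rw [h2, h3])

theorem scheme_exists_etale {T T' : Scheme.{u}} (j : T ⟶ T') (hj : UH j)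
    {E : Scheme.{u}} (e : E ⟶ T) [Etale e] :
    ∃ (E' : Scheme.{u}) (e' : E' ⟶ T') (i : E ⟶ E'), Etale e' ∧ IsPullback i e e' j := by
  have := hj.int; have := hj.inj; have := hj.surj
  have h := Groth.Agent.S0075.result j
  let EE : T.Etale := MorphismProperty.Over.mk ⊤ e ‹_›
  obtain ⟨V, ⟨m⟩⟩ := h.essSurj.mem_essImage EE
  have hV : Etale V.hom := V.prop
  refine ⟨V.left, V.hom, (m.inv).left ≫ pullback.fst V.hom j, hV, ?_⟩
  have h1 : IsPullback (pullback.fst V.hom j) (pullback.snd V.hom j) V.hom j := IsPullback.of_hasPullback _ _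
  have h2 : m.inv.left ≫ pullback.snd V.hom j = e := Over.w m.inv.hom
  have h3 : IsIso m.inv.left := by
    refine ⟨m.hom.left, ?_, ?_⟩
    · have := congrArg (fun f ↦ f.left) m.inv_hom_id
      exact this
    · have := congrArg (fun f ↦ f.left) m.hom_inv_id
      exact this
  refine IsPullback.of_iso h1 (asIso m.inv.left).symm (Iso.refl _) (Iso.refl _) (Iso.refl _) ?_ ?_ ?_ ?_
  · rw [Iso.refl_hom, Category.comp_id]
    exact (IsIso.inv_hom_id_assoc m.inv.left _).symm
  · rw [Iso.refl_hom, Category.comp_id, ← h2]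
    exact (IsIso.inv_hom_id_assoc m.inv.left _).symm
  · simp
  · simp

theorem over_exists_etale {T T' : Over S} (j : T ⟶ T') (hj : UH j.left)
    {E : Over S} (e : E ⟶ T) [Etale e.left] :
    ∃ (E' : Over S) (e' : E' ⟶ T') (i : E ⟶ E'), Etale e'.left ∧ IsPullback i e e' j := by
  obtain ⟨E', e', i, he, sq⟩ := scheme_exists_etale j.left hj e.left
  have w1 : i ≫ e' ≫ T'.hom = E.hom := by
    rw [← Category.assoc, sq.w, Category.assoc, Over.w j, Over.w e]
  let EE : Over S := Over.mk (e' ≫ T'.hom)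
  let ee : EE ⟶ T' := Over.homMk e' rfl
  let ii : E ⟶ EE := Over.homMk i w1
  refine ⟨EE, ee, ii, he, ?_⟩
  have w2 : ii ≫ ee = e ≫ j := by
    ext1
    exact sq.w
  exact IsPullback.of_map (Over.forget S) w2 sq

theorem over_existsUnique_lift {X Y T T' : Over S} (f : X ⟶ Y) [Etale f.left] (j : T ⟶ T')
    (hj : UH j.left) (a : T ⟶ X) (b : T' ⟶ Y) (w : a ≫ f = j ≫ b) :
    ∃! l : T' ⟶ X, j ≫ l = a ∧ l ≫ f = b := by
  obtain ⟨l, ⟨h1, h2⟩, h3⟩ := scheme_existsUnique_lift f.left j.left hj a.left b.left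
    (by rw [← Over.comp_left, w, Over.comp_left])
  refine ⟨Over.homMk l ?_, ⟨?_, ?_⟩, ?_⟩
  · rw [← Over.w f, ← Category.assoc, h2, Over.w]
  · ext1; exact h1
  · ext1; exact h2
  · rintro l' ⟨h4, h5⟩
    ext1
    refine h3 l'.left ⟨?_, ?_⟩
    · rw [← Over.comp_left, h4]
    · rw [← Over.comp_left, h5]

/-- Representable étale maps have unique lifts along universal homeomorphisms of schemes. -/
theorem existsUnique_lift {F G : Sp S} {f : F ⟶ G} (hf : RepWith @Etale f) {T T' : Over S} (j : T ⟶ T')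
    (hj : UH j.left) (a : (yon S).obj T ⟶ F) (b : (yon S).obj T' ⟶ G)
    (w : a ≫ f = (yon S).map j ≫ b) :
    ∃! l : (yon S).obj T' ⟶ F, (yon S).map j ≫ l = a ∧ l ≫ f = b := by
  obtain ⟨E, snd, fst, sq⟩ := hf.1 b
  have he : Etale snd.left := hf.2 _ _ _ sq
  obtain ⟨s, hs⟩ := (yon S).map_surjective (sq.lift _ _ w)
  have hs1 : (yon S).map s ≫ fst = a := by rw [hs]; exact sq.lift_fst _ _ w
  have hs2 : s ≫ snd = j ≫ 𝟙 _ := by
    apply (yon S).map_injective
    rw [Functor.map_comp, hs, Category.comp_id]; exact sq.lift_snd _ _ w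
  obtain ⟨l, ⟨h1, h2⟩, h3⟩ := over_existsUnique_lift snd j hj s (𝟙 _) hs2
  refine ⟨(yon S).map l ≫ fst, ⟨?_, ?_⟩, ?_⟩
  · rw [← Category.assoc, ← Functor.map_comp, h1, hs1]
  · rw [Category.assoc, sq.w, ← Category.assoc, ← Functor.map_comp, h2, (yon S).map_id, Category.id_comp]
  · rintro l' ⟨h4, h5⟩
    have w' : l' ≫ f = 𝟙 _ ≫ b := by rw [h5, Category.id_comp]
    obtain ⟨m, hm⟩ := (yon S).map_surjective (sq.lift _ _ w')
    have hm1 : (yon S).map m ≫ fst = l' := by rw [hm]; exact sq.lift_fst _ _ w'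
    have hm2 : m ≫ snd = 𝟙 _ := by
      apply (yon S).map_injective
      rw [Functor.map_comp, hm, (yon S).map_id]; exact sq.lift_snd _ _ w'
    rw [← hm1]
    congr 2
    apply h3
    refine ⟨?_, hm2⟩
    apply (yon S).map_injective
    apply sq.hom_ext
    · rw [Functor.map_comp, Category.assoc, hm1, hs1, h4]
    · rw [← Functor.map_comp, ← Functor.map_comp, Category.assoc, hm2, hs2]

theorem unique_lift {F G : Sp S} {f : F ⟶ G} (hf : RepWith @Etale f) {T T' : Over S} (j : T ⟶ T')
    (hj : UH j.left) (l l' : (yon S).obj T' ⟶ F)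
    (h1 : (yon S).map j ≫ l = (yon S).map j ≫ l') (h2 : l ≫ f = l' ≫ f) : l = l' :=
  (existsUnique_lift hf j hj ((yon S).map j ≫ l') (l' ≫ f) (Category.assoc _ _ _)).unique
    ⟨h1, h2⟩ ⟨rfl, rfl⟩

section FF

variable {X Y : Sp S} {f : X ⟶ Y} (hf : Representable f) (hfu : RepWith UH f)

include hfu

/-- Base change of the small étale site along a universal homeomorphism is faithful. -/
theorem faithful_bc : (EtOver.bc hf).Faithful where
  map_injective {E E'} g₁ g₂ h := by
    have h' : EtOver.bcMap hf g₁ = EtOver.bcMap hf g₂ := h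
    apply EtOver.hom_ext
    have e1 := EtOver.bcMap_snd hf g₁
    have e2 := EtOver.bcMap_snd hf g₂
    rw [h'] at e1
    have e3 : hf.snd E.obj.hom ≫ g₁.hom.left = hf.snd E.obj.hom ≫ g₂.hom.left := e1.symm.trans e2
    apply (yon S).map_injective
    refine unique_lift (f := E'.obj.hom) E'.property (hf.snd E.obj.hom)
      (hfu.2 _ _ _ (hf.isPullback E.obj.hom)) _ _ ?_ ?_
    · rw [← Functor.map_comp, e3, Functor.map_comp]
    · exact (EtOver.w g₁).trans (EtOver.w g₂).symm

/-- Base change of the small étale site along a universal homeomorphism is full. -/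
theorem full_bc : (EtOver.bc hf).Full where
  map_surjective {E E'} φ := by
    let φ' : EtOver.bcObj hf E ⟶ EtOver.bcObj hf E' := φ
    have w : ((yon S).map (φ'.hom.left ≫ hf.snd E'.obj.hom)) ≫ E'.obj.hom =
        (yon S).map (hf.snd E.obj.hom) ≫ E.obj.hom := by
      rw [Functor.map_comp, Category.assoc]
      have e1 := (hf.isPullback E'.obj.hom).w
      have e2 := (hf.isPullback E.obj.hom).w
      have e0 : (yon S).map φ'.hom.left ≫ hf.fst E'.obj.hom = hf.fst E.obj.hom := EtOver.w φ'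
      exact (congrArg ((yon S).map φ'.hom.left ≫ ·) e1.symm).trans
        ((Category.assoc _ _ _).symm.trans ((congrArg (· ≫ f) e0).trans e2))
    obtain ⟨l, ⟨h1, h2⟩, -⟩ := existsUnique_lift (f := E'.obj.hom) E'.property (hf.snd E.obj.hom)
      (hfu.2 _ _ _ (hf.isPullback E.obj.hom)) _ _ w
    obtain ⟨l, rfl⟩ := (yon S).map_surjective l
    refine ⟨EtOver.homMk l h2, ?_⟩
    apply EtOver.hom_ext
    apply hf.hom_ext
    · exact (EtOver.map_bcMap_fst hf _).trans (EtOver.w φ').symm
    · refine (EtOver.bcMap_snd hf _).trans ?_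
      apply (yon S).map_injective
      exact (Functor.map_comp _ _ _).trans h1

end FF

end K631.UHLift
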